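import Cfsg.Agent.Lib.CoFive.SearchData

/-!
Kernel checks on the tables of the element of order five.
-/

set_option autoImplicit false
set_option maxRecDepth 100000
set_option maxHeartbeats 8000000

namespace Cfsg.Agent.Lib.CoFive

open Cfsg
open Cfsg.Agent.Lib

/-- The table of a power. -/
def powTab (i : ℕ) : List (List ℤ) := powTabs.getD i []

/-- The packed rows of a power. -/
def powRow (i : ℕ) : List ℤ := powRows.getD i []

theorem fiveMat_ok : MatOK fiveMat := by
  refine ⟨⟨?_, ?_, ?_, ?_⟩, ⟨?_, ?_, ?_, ?_⟩, ?_, ?_⟩ <;> decide +kernel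

theorem pow_small : ∀ m : Fin 5, ∀ i j : Fin 24, |ent (powTab m) i j| ≤ 8 := by decide +kernel

theorem pow_rows : ∀ m : Fin 5, powRow m = List.ofFn fun k => pack (ent (powTab m) k) := by decide +kernel

theorem pow_one : powTab 1 = fiveMat ∧ powTab 0 = oneTab := by decide +kernel

theorem pow_prod : prodTest (powTab 1) (powTab 1) (powTab 2) (powRow 1) = true ∧
    prodTest (powTab 2) (powTab 1) (powTab 3) (powRow 1) = true ∧
    prodTest (powTab 3) (powTab 1) (powTab 4) (powRow 1) = true ∧
    prodTest (powTab 4) (powTab 1) (powTab 0) (powRow 1) = true := by decide +kernel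

theorem pos_bound : ∀ i j : Fin 24, |ent fiveMat i j| ≤ 8 ∧ |ent fiveMat i j + ent fiveMat j i| ≤ 16 := by
  decide +kernel

theorem pos_entries : ∀ k : Fin 24, (posTab.getD k ⟨0, 0, 0, 0, 0⟩).k = k ∧
    (posTab.getD k ⟨0, 0, 0, 0, 0⟩).sh = 64 + 16 * (k : ℕ) ∧
    ((posTab.getD k ⟨0, 0, 0, 0, 0⟩).d : ℤ) = ent fiveMat k k + 64 ∧
    ((posTab.getD k ⟨0, 0, 0, 0, 0⟩).row : ℤ) = pack (fun j => ent fiveMat k j + ent fiveMat j k + 16) * 2 ^ 64 + wt k ∧
    ((posTab.getD k ⟨0, 0, 0, 0, 0⟩).e : ℤ) = pack (Pi.single k (1 : ℤ)) * 2 ^ 64 + wt k := by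
  decide +kernel

/-- The base record is a vector of the class. -/
noncomputable def baseTest (b : List Vc) : Bool :=
  Leech.leechChk (fun p => vf (b.headD vc0).v (Golay.idx p)) &&
    dotTest (b.headD vc0).n (b.getD 0 vc0) 96 && dotTest (b.headD vc0).n (b.getD 1 vc0) 48 &&
    orbTest powRows b

theorem base_ok : baseOrbs.all baseTest = true := by decide +kernel

theorem levels_ok :
    levelsTest powRows (baseOrbs.headD []) levels baseOrbs.tail [baseOrbs.headD []] = true := by
  decide +kernel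

theorem tuples_length : Nat.beq (levels.foldl extend [[baseOrbs.headD []]]).length 160 = true := by
  decide +kernel

theorem baseOrbs_length : baseOrbs.length = 6 := by decide +kernel

theorem span_ok : ∀ k : Fin 24,
    comb (spanCoef.getD k []) (baseOrbs.flatten.map fun u => (u.n : ℤ) - eightNum) =
      40 * pack (Pi.single k (1 : ℤ)) ∧
    (spanCoef.getD k []).length = 24 ∧ ∀ l : Fin 24, |(spanCoef.getD k []).getD l 0| ≤ 40 := by
  decide +kernel

end Cfsg.Agent.Lib.CoFive
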