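import Cfsg.Agent.Lib.CoFive.CensusSum
import Cfsg.Agent.Lib.CoFive.Checks
import Cfsg.Agent.Lib.Leech.Order

/-!
The centraliser of the element of order five has at most `37800 * 160` elements.
-/

set_option autoImplicit false
set_option maxRecDepth 100000

namespace Cfsg.Agent.Lib.CoFive

open Cfsg
open Cfsg.Agent.Lib

/-- The element of order five. -/
def aCo : Co0 := coOf fiveMat fiveMat_ok

theorem rowsOK_aCo : RowsOK aCo (powTab 1) := by
  rw [pow_one.1]; exact rowsOK_coOf _ _

theorem small_pow {m : ℕ} (hm : m < 5) : Small (powTab m) := pow_small ⟨m, hm⟩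

theorem rowsOK_pow : ∀ {m : ℕ}, m < 5 → RowsOK (aCo ^ m) (powTab m) := by
  obtain ⟨p2, p3, p4, -⟩ := pow_prod
  intro m hm
  have h1 : RowsOK (aCo ^ 1) (powTab 1) := by rw [_root_.pow_one]; exact rowsOK_aCo
  have s1 := small_pow (m := 1) (by norm_num)
  have step : ∀ k, k + 1 < 5 → RowsOK (aCo ^ k) (powTab k) →
      prodTest (powTab k) (powTab 1) (powTab (k + 1)) (powRow 1) = true → RowsOK (aCo ^ (k + 1)) (powTab (k + 1)) :=
    fun k hk h ht => by
      rw [pow_succ']
      exact rowsOK_mul h rowsOK_aCo (small_pow (by omega)) s1 (small_pow hk) ht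
  have h2 := step 1 (by norm_num) h1 p2
  have h3 := step 2 (by norm_num) h2 p3
  have h4 := step 3 (by norm_num) h3 p4
  interval_cases m
  · rw [pow_zero, pow_one.2]; exact rowsOK_one
  · exact h1
  · exact h2
  · exact h3
  · exact h4

theorem aCo_pow_five : aCo ^ 5 = 1 := by
  refine co0_ext_rows (L := powTab 0) ?_ (by rw [pow_one.2]; exact rowsOK_one)
  rw [pow_succ']
  exact rowsOK_mul (rowsOK_pow (by norm_num)) rowsOK_aCo (small_pow (by norm_num)) (small_pow (by norm_num))
    (small_pow (by norm_num)) pow_prod.2.2.2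

theorem posOK_five : PosOK (ent (powTab 1)) posTab := by
  rw [pow_one.1]
  exact ⟨pos_bound, fun k => ⟨_, rfl, pos_entries k⟩⟩

theorem census_five : (classSet aCo).Finite ∧ (classSet aCo).ncard ≤ 37800 ∧
    ∀ v ∈ classSet aCo, ∀ l ∈ levels, ∃ D : ℕ, (D : ℤ) = pack (fun i => cd (v : GolayPt → ℤ) i + 8) ∧
      candTest (baseOrbs.headD []) D l = true :=
  @census aCo (powTab 1) posTab (baseOrbs.headD []) levels 37800 fiveLeaf fiveLeaf.eq_def rowsOK_aCo
    posOK_five (by norm_num) census_sum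

theorem powRows_eq : ∀ i < 4, RowsOK (aCo ^ i) (powTab i) ∧ Small (powTab i) ∧
    powRows.getD i [] = List.ofFn fun k => pack (ent (powTab i) k) :=
  fun i hi => ⟨rowsOK_pow (by omega), small_pow (by omega), pow_rows ⟨i, by omega⟩⟩

theorem base_class : ∀ b ∈ baseOrbs, ∃ v ∈ classSet aCo, OrbitOf (fun i => aCo ^ i) b v := by
  intro b hb
  have h := List.all_eq_true.1 base_ok b hb
  simp only [baseTest, Bool.and_eq_true] at h
  obtain ⟨⟨⟨hl, hn32⟩, hdot⟩, horb⟩ := h
  set v : leechLattice := ⟨_, Leech.leechChk_sound hl⟩ with hv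
  have hcd : vf (b.headD vc0).v = cd (v : GolayPt → ℤ) :=
    funext fun k => by show _ = vf (b.headD vc0).v (Golay.idx (Golay.pt k)); rw [Golay.idx_pt]
  have ho := orbTest_sound (A := fun i => aCo ^ i) powRows_eq horb hcd
  obtain ⟨c0, e0⟩ := ho.2 0 (by norm_num)
  obtain ⟨c1, e1⟩ := ho.2 1 (by norm_num)
  obtain ⟨hb5, hn, -, -⟩ := vcChk_iff c0
  rw [headD_eq_getD] at hn32 hdot hcd
  rw [dotTest_iff hb5 hn c0, hcd, dot_cd] at hn32
  rw [dotTest_iff hb5 hn c1, hcd, e1, dot_cd] at hdot
  simp only [_root_.pow_one] at hdot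
  refine ⟨v, ⟨?_, ?_⟩, ho⟩
  · have : sqNorm (v : GolayPt → ℤ) = dotInt (v : GolayPt → ℤ) (v : GolayPt → ℤ) :=
      Finset.sum_congr rfl fun p _ => by ring
    omega
  · have : dotInt ((aCo • v : leechLattice) : GolayPt → ℤ) (v : GolayPt → ℤ) =
        dotInt (v : GolayPt → ℤ) ((aCo • v : leechLattice) : GolayPt → ℤ) :=
      Finset.sum_congr rfl fun p _ => by ring
    omega

/-- Two elements agreeing on the translates of the base agree. -/
theorem eq_of_base {g h : Co0} (H : ∀ b ∈ baseOrbs, ∀ u ∈ b, ∀ v : leechLattice,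
    vf u.v = cd (v : GolayPt → ℤ) → g • v = h • v) : g = h := by
  classical
  have hmem : ∀ u ∈ baseOrbs.flatten, ∃ v : leechLattice, vf u.v = cd (v : GolayPt → ℤ) ∧ g • v = h • v ∧
      vcChk u = true := by
    intro u hu
    obtain ⟨b, hb, hub⟩ := List.mem_flatten.1 hu
    obtain ⟨v, -, ho⟩ := base_class b hb
    obtain ⟨i, hi, rfl⟩ := List.getElem_of_mem hub
    have := ho.2 i (ho.1 ▸ hi)
    rw [List.getD_eq_getElem _ _ hi] at this
    exact ⟨_, this.2, H b hb _ hub _ this.2, this.1⟩
  have hlen : baseOrbs.flatten.length = 24 := by decide +kernel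
  choose V hV1 hV2 hV3 using fun l : Fin 24 => hmem (baseOrbs.flatten.get (Fin.cast hlen.symm l)) (List.get_mem _ _)
  refine Leech.co0_ext_pt8 fun p => ?_
  obtain ⟨hc, hcl, hcb⟩ := span_ok (Golay.idx p)
  set c : Fin 24 → ℤ := fun l => (spanCoef.getD (Golay.idx p) []).getD l 0 with hcdef
  have h1 : spanCoef.getD (Golay.idx p) [] = List.ofFn c := by
    refine List.ext_getElem (by rw [List.length_ofFn, hcl]) fun i q1 q2 => ?_
    rw [List.getElem_ofFn, hcdef]
    simp only
    rw [List.getD_eq_getElem _ _ q1]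
  have h2 : (baseOrbs.flatten.map fun u => (u.n : ℤ) - eightNum) =
      List.ofFn fun l => pack (cd (V l : GolayPt → ℤ)) := by
    refine List.ext_getElem (by rw [List.length_ofFn, List.length_map, hlen]) fun i q1 q2 => ?_
    rw [List.getElem_ofFn, List.getElem_map]
    have hi : i < 24 := by rw [List.length_ofFn] at q2; exact q2
    obtain ⟨-, hn, -, -⟩ := vcChk_iff (hV3 ⟨i, hi⟩)
    rw [hV1 ⟨i, hi⟩] at hn
    simp only [List.get_eq_getElem, Fin.val_cast] at hn
    rw [hn, eightNum_eq, sub_eq_iff_eq_add, ← pack_add]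
    rfl
  rw [h1, h2, comb_ofFn] at hc
  have e1 : ∑ l, c l * pack (cd (V l : GolayPt → ℤ)) = pack fun j => ∑ l, c l * cd (V l : GolayPt → ℤ) j := by
    simp only [pack, Finset.mul_sum, Finset.sum_mul]
    rw [Finset.sum_comm]
    exact Finset.sum_congr rfl fun j _ => Finset.sum_congr rfl fun l _ => by ring
  rw [e1, ← pack_smul] at hc
  have hbd : ∀ l j, |cd (V l : GolayPt → ℤ) j| ≤ 5 := fun l j => by
    rw [← hV1 l]; exact vc_smul_bound (hV3 l) j
  have hcomb := pack_inj (fun j => by
      have hb : |∑ l, c l * cd (V l : GolayPt → ℤ) j| ≤ 24 * 200 := by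
        refine (Finset.abs_sum_le_sum_abs _ _).trans
          ((Finset.sum_le_card_nsmul _ _ 200 fun l _ => ?_).trans (by simp))
        rw [abs_mul]
        exact mul_le_mul (hcb l) (hbd l j) (abs_nonneg _) (by norm_num)
      have := abs_le.1 hb
      omega)
    (fun j => by by_cases hj : j = Golay.idx p <;> simp [hj]) hc
  have hvec : (40 : ℤ) • Leech.pt8 p = ∑ l, (8 * c l) • V l := by
    refine Subtype.ext (funext fun q => ?_)
    have := congrFun hcomb (Golay.idx q)
    simp only [cd_idx] at this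
    simp only [AddSubgroup.coe_zsmul, Pi.smul_apply, smul_eq_mul, AddSubgroup.val_finsetSum, Finset.sum_apply,
      mul_assoc, ← Finset.mul_sum, this]
    show 40 * (Pi.single p (8 : ℤ) : GolayPt → ℤ) q = _
    by_cases hq : q = p
    · subst hq; simp
    · rw [Pi.single_eq_of_ne hq, Pi.single_eq_of_ne (show Golay.idx q ≠ Golay.idx p from
        fun e => hq (Golay.ptEquiv.injective e))]
      ring
  have e : (40 : ℤ) • (g • Leech.pt8 p) = (40 : ℤ) • (h • Leech.pt8 p) := by
    rw [← Leech.smul_zsmul', ← Leech.smul_zsmul', hvec, Leech.smul_sum', Leech.smul_sum']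
    exact Finset.sum_congr rfl fun l _ => by rw [Leech.smul_zsmul', Leech.smul_zsmul', hV2 l]
  refine Subtype.ext (funext fun q => ?_)
  have := congrArg (fun z : leechLattice => (z : GolayPt → ℤ) q) e
  simpa using this

theorem getD_mem {α : Type*} (d : α) {l : List α} {i : ℕ} (h : i < l.length) : l.getD i d ∈ l := by
  rw [List.getD_eq_getElem _ _ h]; exact List.getElem_mem _

theorem card_centralizer_le : Nat.card (Subgroup.centralizer ({aCo} : Set Co0)) ≤ 6048000 := by
  classical
  haveI : Finite Co0 := Leech.finite_co0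
  set C := Subgroup.centralizer ({aCo} : Set Co0) with hC
  set A : ℕ → Co0 := fun i => aCo ^ i with hAdef
  obtain ⟨hfin, hcount, hcand⟩ := census_five
  obtain ⟨first, rest, hbase⟩ : ∃ f r, baseOrbs = f :: r := by
    cases hb : baseOrbs with
    | nil => have := baseOrbs_length; rw [hb] at this; simp at this
    | cons f r => exact ⟨f, r, rfl⟩
  have hhead : baseOrbs.headD [] = first := by rw [hbase]; rfl
  have htail : baseOrbs.tail = rest := by rw [hbase]; rfl
  obtain ⟨v₁, hv₁, ho₁⟩ := base_class first (by rw [hbase]; exact List.mem_cons_self ..)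
  have hcomm : ∀ g : C, ∀ i, Commute (g : Co0) (A i) := fun g i =>
    Commute.pow_right (Subgroup.mem_centralizer_singleton_iff.1 g.2) i
  have hkey : ∀ g : MulAction.stabilizer C v₁, ∃ tp ∈ (levels.foldl extend [[first]]).toFinset,
      List.Forall₂ (fun o o' => ∃ v, OrbitOf A o v ∧ OrbitOf A o' (((g : C) : Co0) • v)) baseOrbs tp := by
    intro g
    have hfix : ((g : C) : Co0) • v₁ = v₁ := g.2
    obtain ⟨tp, h1, h2⟩ := search (A := A) (a := aCo) (tabs := powTab) (Ps := powRows) powRows_eq (pow_zero _)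
      (g := ((g : C) : Co0)) (hcomm g.1) (Subgroup.mem_centralizer_singleton_iff.1 g.1.2)
      (first := first) (ls₀ := levels) (fun v hv l hl => hhead ▸ hcand v hv l hl) levels rest [first] [first]
      [[first]] (fun l hl => hl) (hhead ▸ htail ▸ levels_ok)
      (fun b hb => base_class b (by rw [hbase]; exact List.mem_cons_of_mem _ hb))
      (List.Forall₂.cons ⟨v₁, ho₁, by rw [hfix]; exact ho₁⟩ List.Forall₂.nil) rfl (List.mem_singleton.2 rfl)
    refine ⟨tp, List.mem_toFinset.2 h1, ?_⟩
    rw [hbase]; exact h2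
  choose F hF1 hF2 using hkey
  have hinj : Function.Injective F := by
    intro g h e
    refine Subtype.ext (Subtype.ext (eq_of_base fun b hb u hu v hv => ?_))
    have hg := hF2 g
    have hh := hF2 h
    rw [e] at hg
    obtain ⟨i, hi, rfl⟩ := List.getElem_of_mem hb
    have hlen := hg.length_eq
    have rg := hg.get hi (hlen ▸ hi)
    have rh := hh.get hi (hlen ▸ hi)
    simp only [List.get_eq_getElem] at rg rh
    obtain ⟨w, hw1, hw2⟩ := rg
    obtain ⟨w', hw1', hw2'⟩ := rh
    obtain ⟨k, hk, rfl⟩ := List.getElem_of_mem hu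
    have hk4 : k < 4 := hw1.1 ▸ hk
    have a1 := (hw1.2 k hk4).2
    have a2 := (hw2.2 k hk4).2
    have a1' := (hw1'.2 k hk4).2
    have a2' := (hw2'.2 k hk4).2
    rw [List.getD_eq_getElem _ _ hk] at a1 a1'
    have cdinj : ∀ {x y : leechLattice}, cd (x : GolayPt → ℤ) = cd (y : GolayPt → ℤ) → x = y := fun e =>
      Subtype.ext (funext fun p => by simpa [cd, Golay.pt_idx] using congrFun e (Golay.idx p))
    have ev : A k • w = v := cdinj (a1.symm.trans hv)
    have ev' : A k • w' = v := cdinj (a1'.symm.trans hv)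
    have key : A k • (((g : C) : Co0) • w) = A k • (((h : C) : Co0) • w') := cdinj (a2.symm.trans a2')
    rw [← mul_smul, ← (hcomm g.1 k).eq, mul_smul, ev, ← mul_smul, ← (hcomm h.1 k).eq, mul_smul, ev'] at key
    exact key
  have hstab : Nat.card (MulAction.stabilizer C v₁) ≤ 160 := by
    refine (Nat.card_le_card_of_injective (fun g => (⟨F g, hF1 g⟩ : {x // x ∈ (levels.foldl extend [[first]]).toFinset}))
      (fun g h e => hinj (congrArg Subtype.val e))).trans ?_
    rw [Nat.card_eq_fintype_card, Fintype.card_coe]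
    refine (List.toFinset_card_le _).trans ?_
    rw [← hhead, Nat.eq_of_beq_eq_true tuples_length]
  have horb : (MulAction.orbit C v₁).ncard ≤ 37800 := by
    refine le_trans (Set.ncard_le_ncard ?_ hfin) hcount
    rintro _ ⟨g, rfl⟩
    have hc : (g : Co0) * aCo = aCo * g := Subgroup.mem_centralizer_singleton_iff.1 g.2
    refine ⟨(Leech.sqNorm_smul (g : Co0) v₁).trans hv₁.1, ?_⟩
    show dotInt ((aCo • ((g : Co0) • v₁) : leechLattice) : GolayPt → ℤ)
      (((g : Co0) • v₁ : leechLattice) : GolayPt → ℤ) = -16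
    rw [← mul_smul, ← hc, mul_smul, Leech.dotInt_smul]
    exact hv₁.2
  have h := Nat.card_congr (MulAction.orbitProdStabilizerEquivGroup C v₁)
  rw [Nat.card_prod, Nat.card_coe_set_eq] at h
  calc Nat.card C = _ := h.symm
    _ ≤ 37800 * 160 := Nat.mul_le_mul horb hstab
    _ = 6048000 := by norm_num

end Cfsg.Agent.Lib.CoFive
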