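import Cfsg.Agent.Lib.CoFive.SearchData

/-!
The census sums.
-/

set_option autoImplicit false
set_option maxRecDepth 100000
set_option maxHeartbeats 8000000

namespace Cfsg.Agent.Lib.CoFive

/-- The leaf function. -/
noncomputable def fiveLeaf : ℕ → ℕ → ℕ := leafVal (baseOrbs.headD []) levels

theorem pairs_sum : Nat.beq (pairPart Nat.add 0 fiveLeaf ((List.range 24).map (posAt posTab))) 180 = true := by
  decide +kernel

end Cfsg.Agent.Lib.CoFive
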