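import Cfsg.Agent.Lib.CoFive.Census

/-! Census sums over blocks of code words. -/

set_option autoImplicit false
set_option maxRecDepth 100000
set_option maxHeartbeats 8000000

namespace Cfsg.Agent.Lib.CoFive

theorem oct_sum0 : Nat.beq (octChunk Nat.add 0 fiveLeaf posTab 0) 6168 = true := by decide +kernel

theorem odd_sum3 : Nat.beq (oddChunk Nat.add 0 fiveLeaf posTab 3) 2208 = true := by decide +kernel

end Cfsg.Agent.Lib.CoFive
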