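import Cfsg.Agent.Lib.CoFive.Census

/-! Census sums over blocks of code words. -/

set_option autoImplicit false
set_option maxRecDepth 100000
set_option maxHeartbeats 8000000

namespace Cfsg.Agent.Lib.CoFive

theorem oct_sum1 : Nat.beq (octChunk Nat.add 0 fiveLeaf posTab 1) 2912 = true := by decide +kernel

theorem odd_sum1 : Nat.beq (oddChunk Nat.add 0 fiveLeaf posTab 1) 2880 = true := by decide +kernel

theorem oct_sum3 : Nat.beq (octChunk Nat.add 0 fiveLeaf posTab 3) 1120 = true := by decide +kernel

theorem odd_sum5 : Nat.beq (oddChunk Nat.add 0 fiveLeaf posTab 5) 2208 = true := by decide +kernel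

theorem oct_sum7 : Nat.beq (octChunk Nat.add 0 fiveLeaf posTab 7) 348 = true := by decide +kernel

end Cfsg.Agent.Lib.CoFive
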