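import Cfsg.Agent.Lib.CoFive.CensusBlocks0
import Cfsg.Agent.Lib.CoFive.CensusBlocks1
import Cfsg.Agent.Lib.CoFive.CensusBlocks2
import Cfsg.Agent.Lib.CoFive.CensusBlocks3

/-! The census has 37800 vectors. -/

set_option autoImplicit false

namespace Cfsg.Agent.Lib.CoFive

theorem census_sum : pairPart Nat.add 0 fiveLeaf ((List.range 24).map (posAt posTab)) +
    ((List.range 8).map (octChunk Nat.add 0 fiveLeaf posTab)).sum +
    ((List.range 8).map (oddChunk Nat.add 0 fiveLeaf posTab)).sum = 37800 := by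
  have e : List.range 8 = [0, 1, 2, 3, 4, 5, 6, 7] := rfl
  simp only [e, List.map_cons, List.map_nil, List.sum_cons, List.sum_nil, Nat.eq_of_beq_eq_true pairs_sum,
    Nat.eq_of_beq_eq_true oct_sum0, Nat.eq_of_beq_eq_true odd_sum0, Nat.eq_of_beq_eq_true oct_sum1, Nat.eq_of_beq_eq_true odd_sum1, Nat.eq_of_beq_eq_true oct_sum2, Nat.eq_of_beq_eq_true odd_sum2, Nat.eq_of_beq_eq_true oct_sum3, Nat.eq_of_beq_eq_true odd_sum3, Nat.eq_of_beq_eq_true oct_sum4, Nat.eq_of_beq_eq_true odd_sum4, Nat.eq_of_beq_eq_true oct_sum5, Nat.eq_of_beq_eq_true odd_sum5, Nat.eq_of_beq_eq_true oct_sum6, Nat.eq_of_beq_eq_true odd_sum6, Nat.eq_of_beq_eq_true oct_sum7, Nat.eq_of_beq_eq_true odd_sum7,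
    Nat.reduceAdd]

end Cfsg.Agent.Lib.CoFive
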