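import Cfsg.Agent.Lib.CoFive.Moves

/-!
Recorded vectors: dot products by one multiplication and checked linear maps.
-/

set_option autoImplicit false

namespace Cfsg.Agent.Lib.CoFive

open Cfsg

/-- A recorded vector: coordinates, forward and backward packed numbers, shifted sum. -/
structure Vc where
  v : List ℤ
  n : ℕ
  r : ℕ
  s : ℕ

/-- The vector of a coordinate list. -/
def vf (l : List ℤ) (i : Fin 24) : ℤ := l.getD i 0

/-- The record is right. -/
def vcChk (u : Vc) : Bool :=
  decide (∀ i, |vf u.v i| ≤ 5) && decide ((u.n : ℤ) = pack fun i => vf u.v i + 8) &&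
    decide ((u.r : ℤ) = pack fun i : Fin 24 => vf u.v i.rev + 8) &&
    decide ((u.s : ℤ) = 8 * (∑ i, vf u.v i) + 4000)

/-- The packed vector of ones. -/
def onesNum : ℕ := 0x000100010001000100010001000100010001000100010001000100010001000100010001000100010001000100010001

/-- The vector with number `D` has dot product `t - 64` with `u`. -/
noncomputable def dotTest (D : ℕ) (u : Vc) (t : ℕ) : Bool :=
  Nat.beq (Nat.add (coeff D u.r) 4064) (Nat.add (Nat.add (Nat.mul 8 (coeff D onesNum)) u.s) t)

theorem onesNum_eq : (onesNum : ℤ) = pack fun _ : Fin 24 => (1 : ℤ) := by decide +kernel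

theorem vcChk_iff {u : Vc} (h : vcChk u = true) : (∀ i, |vf u.v i| ≤ 5) ∧
    (u.n : ℤ) = pack (fun i => vf u.v i + 8) ∧ (u.r : ℤ) = pack (fun i : Fin 24 => vf u.v i.rev + 8) ∧
    (u.s : ℤ) = 8 * (∑ i, vf u.v i) + 4000 := by
  simp only [vcChk, Bool.and_eq_true, decide_eq_true_eq] at h
  exact ⟨h.1.1.1, h.1.1.2, h.1.2, h.2⟩

theorem dotTest_iff {x : Fin 24 → ℤ} (hx : ∀ i, |x i| ≤ 5) {D : ℕ} (hD : (D : ℤ) = pack fun i => x i + 8)
    {u : Vc} (hu : vcChk u = true) (t : ℕ) :
    dotTest D u t = true ↔ (∑ i, x i * vf u.v i) + 64 = t := by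
  obtain ⟨hb, -, hr, hs⟩ := vcChk_iff hu
  have hbx : ∀ i, 0 ≤ x i + 8 ∧ x i + 8 ≤ 32 := fun i => by have := abs_le.1 (hx i); omega
  have h1 := coeff_eq (u := fun i => vf u.v i + 8) hbx (fun i => by have := abs_le.1 (hb i); omega) hD hr
  have h2 := coeff_eq (u := fun _ => (1 : ℤ)) hbx (fun _ => by norm_num) hD onesNum_eq
  simp only [add_mul, mul_add, mul_one, Finset.sum_add_distrib, ← Finset.mul_sum, ← Finset.sum_mul,
    Finset.sum_const, Finset.card_univ, Fintype.card_fin, nsmul_eq_mul, Nat.cast_ofNat] at h1 h2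
  rw [dotTest, Nat.beq_eq]
  simp only [Nat.add_eq, Nat.mul_eq]
  omega

theorem pack_inj {f g : Fin 24 → ℤ} (hf : ∀ i, -32768 ≤ f i ∧ f i < 32768) (hg : ∀ i, -32768 ≤ g i ∧ g i < 32768)
    (h : pack f = pack g) : f = g :=
  funext fun i => by rw [← lane_pack off24_eq f hf i, h, lane_pack off24_eq g hg i]

theorem eq_of_num_eq {u w : Fin 24 → ℤ} (hu : ∀ i, |u i| ≤ 5) (hw : ∀ i, |w i| ≤ 5) {D : ℕ}
    (h1 : (D : ℤ) = pack fun i => u i + 8) (h2 : (D : ℤ) = pack fun i => w i + 8) : u = w := by
  have := pack_inj (fun i => by have := abs_le.1 (hu i); omega) (fun i => by have := abs_le.1 (hw i); omega)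
    (h1.symm.trans h2)
  exact funext fun i => add_right_cancel (congrFun this i)

/-- The bias of a vector number. -/
def eightNum : ℤ := 0x000800080008000800080008000800080008000800080008000800080008000800080008000800080008000800080008

theorem eightNum_eq : eightNum = pack fun _ : Fin 24 => (8 : ℤ) := by decide +kernel

/-- The combination of packed rows with the coefficients in a list. -/
noncomputable def comb : List ℤ → List ℤ → ℤ
  | x :: xs, r :: rs => x * r + comb xs rs
  | _, _ => 0

/-- `u` is the image of `w` under the matrix with packed rows `P`. -/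
noncomputable def imgTest (P : List ℤ) (w u : Vc) : Bool :=
  decide (comb w.v P = 8 * ((u.n : ℤ) - eightNum))

theorem comb_ofFn : ∀ {n : ℕ} (x r : Fin n → ℤ),
    comb (List.ofFn x) (List.ofFn r) = ∑ k, x k * r k := by
  intro n
  induction n with
  | zero => intro x r; simp [comb]
  | succ n ih => intro x r; rw [List.ofFn_succ, List.ofFn_succ, comb, ih, Fin.sum_univ_succ]

theorem imgTest_sound {N : Fin 24 → Fin 24 → ℤ} (hN : ∀ i j, |N i j| ≤ 8) {P : List ℤ}
    (hP : P = List.ofFn fun i => pack (N i)) {w u : Vc} (hw : vcChk w = true) (hu : vcChk u = true)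
    (hl : w.v.length = 24) (h : imgTest P w u = true) (j : Fin 24) :
    ∑ i, vf w.v i * N i j = 8 * vf u.v j := by
  obtain ⟨hbw, -, -, -⟩ := vcChk_iff hw
  obtain ⟨hbu, hn, -, -⟩ := vcChk_iff hu
  have hv : w.v = List.ofFn (vf w.v) := by
    refine List.ext_getElem (by rw [List.length_ofFn, hl]) fun i h1 h2 => ?_
    rw [List.getElem_ofFn, vf, List.getD_eq_getElem _ _ h1]
  rw [imgTest, decide_eq_true_eq, hP, hv, comb_ofFn, hn, eightNum_eq] at h
  have e1 : ∑ i, vf w.v i * pack (N i) = pack fun j => ∑ i, vf w.v i * N i j := by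
    simp only [pack, Finset.mul_sum, Finset.sum_mul]
    rw [Finset.sum_comm]
    exact Finset.sum_congr rfl fun j _ => Finset.sum_congr rfl fun i _ => by ring
  have e2 : pack (fun i => vf u.v i + 8) - pack (fun _ : Fin 24 => (8 : ℤ)) = pack (vf u.v) := by
    rw [sub_eq_iff_eq_add, ← pack_add]; rfl
  rw [e1, e2, ← pack_smul] at h
  refine congrFun (pack_inj (fun j => ?_) (fun j => by have := abs_le.1 (hbu j); omega) h) j
  have hb : |∑ i, vf w.v i * N i j| ≤ 24 * 40 := by
    refine (Finset.abs_sum_le_sum_abs _ _).trans ((Finset.sum_le_card_nsmul _ _ 40 fun i _ => ?_).trans (by simp))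
    rw [abs_mul]
    exact mul_le_mul (hbw i) (hN i j) (abs_nonneg _) (by norm_num)
  have := abs_le.1 hb
  omega

end Cfsg.Agent.Lib.CoFive
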