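import Cfsg.Agent.Lib.CoFive.Moves

/-!
Enumeration of all the vectors of squared length 32, by shape.
-/

set_option autoImplicit false

namespace Cfsg.Agent.Lib.CoFive

open Cfsg
open Cfsg.Agent.Lib
open Cfsg.Agent.Lib.Compute

variable {α : Type}

/-- The entry of a table. -/
def posAt (T : List Pos) (k : ℕ) : Pos := T.getD k ⟨0, 0, 0, 0, 0⟩

/-- Evaluate a list of positions before passing it on. -/
noncomputable def forcePos : List Pos → (List Pos → α) → α
  | [], K => K []
  | p :: ps, K => forceNat p.k fun k => forceNat p.sh fun sh => forceNat p.d fun d => forceNat p.row fun row =>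
      forceNat p.e fun e => forcePos ps fun l => K (⟨k, sh, d, row, e⟩ :: l)

theorem forcePos_eq : ∀ (ps : List Pos) (K : List Pos → α), forcePos ps K = K ps := by
  intro ps
  induction ps with
  | nil => intro K; rfl
  | cons p ps ih => intro K; simp only [forcePos, forceNat_eq, ih]

/-- All sign choices with an even number of negative signs. -/
noncomputable def evenSigns (add : α → α → α) (z : α) (f : ℕ → ℕ → α) : List Pos → Bool → ℕ → ℕ → ℕ → α
  | [], par, Q, _, W => bif par then z else f Q W
  | p :: ps, par, Q, H, W =>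
      add (up p 2 Q H W (evenSigns add z f ps par)) (down p 2 Q H W (evenSigns add z f ps (!par)))

/-- The signs given by a mask. -/
noncomputable def signBase (m : ℕ) : List Pos → (ℕ → ℕ → ℕ → α) → ℕ → ℕ → ℕ → α
  | [], K, Q, H, W => K Q H W
  | p :: ps, K, Q, H, W =>
      bif m.testBit p.k then down p 1 Q H W (signBase m ps K) else up p 1 Q H W (signBase m ps K)

/-- Sum over a list. -/
noncomputable def sumA {ι : Type} (add : α → α → α) (z : α) (g : ι → α) : List ι → α
  | [] => z
  | p :: ps => add (g p) (sumA add z g ps)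

/-- Pass on value and vector. -/
def leafQ (f : ℕ → ℕ → α) (Q _H W : ℕ) : α := f Q W

/-- The last move of an odd vector. -/
noncomputable def oddLeaf (f : ℕ → ℕ → α) (m : ℕ) (Q H W : ℕ) (p : Pos) : α :=
  bif m.testBit p.k then up p 4 Q H W (leafQ f) else down p 4 Q H W (leafQ f)

/-- The vectors on an octad. -/
noncomputable def octPart (add : α → α → α) (z : α) (f : ℕ → ℕ → α) (T : List Pos) (m : ℕ) : α :=
  forceNat m fun m => bif Nat.beq ((List.range 24).filter fun k => m.testBit k).length 8 then
    forcePos (((List.range 24).filter fun k => m.testBit k).map (posAt T)) fun ps =>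
      evenSigns add z f ps false st0.q st0.H st0.W
  else z

/-- The odd vectors with a given pattern modulo four. -/
noncomputable def oddPart (add : α → α → α) (z : α) (f : ℕ → ℕ → α) (T : List Pos) (m : ℕ) : α :=
  forceNat m fun m => forcePos ((List.range 24).map (posAt T)) fun ps =>
    signBase m ps (fun Q H W => sumA add z (oddLeaf f m Q H W) ps) st0.q st0.H st0.W

/-- The second non-zero coordinate. -/
noncomputable def pairLeaf (add : α → α → α) (f : ℕ → ℕ → α) (Q H W : ℕ) (p : Pos) : α :=
  add (up p 4 Q H W (leafQ f)) (down p 4 Q H W (leafQ f))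

/-- The vectors with two non-zero coordinates. -/
noncomputable def pairPart (add : α → α → α) (z : α) (f : ℕ → ℕ → α) : List Pos → α
  | [] => z
  | p :: ps => add
      (add (up p 4 st0.q st0.H st0.W fun Q H W => sumA add z (pairLeaf add f Q H W) ps)
        (down p 4 st0.q st0.H st0.W fun Q H W => sumA add z (pairLeaf add f Q H W) ps))
      (pairPart add z f ps)

/-- The octad part of a range of code words. -/
noncomputable def octChunk (add : α → α → α) (z : α) (f : ℕ → ℕ → α) (T : List Pos) (a : ℕ) : α :=
  sumA add z (fun c => octPart add z f T (Golay.encode c)) (List.range' (512 * a) 512)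

/-- The odd part of a range of code words. -/
noncomputable def oddChunk (add : α → α → α) (z : α) (f : ℕ → ℕ → α) (T : List Pos) (a : ℕ) : α :=
  sumA add z (fun c => oddPart add z f T (Golay.encode c)) (List.range' (512 * a) 512)

/-- One leaf. -/
def single (Q W : ℕ) : List (ℕ × ℕ) := [(Q, W)]

/-- All leaves. -/
noncomputable def leaves (T : List Pos) : List (ℕ × ℕ) :=
  pairPart (· ++ ·) [] single ((List.range 24).map (posAt T)) ++
    ((List.range 8).map (octChunk (· ++ ·) [] single T)).flatten ++
    ((List.range 8).map (oddChunk (· ++ ·) [] single T)).flatten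

section Hom

variable {β : Type} (φ : α → β) {add : α → α → α} {add' : β → β → β} {z : α} {z' : β}
  (hz : φ z = z') (hadd : ∀ a b, φ (add a b) = add' (φ a) (φ b))

theorem up_map (p : Pos) (a Q H W : ℕ) (K : ℕ → ℕ → ℕ → α) :
    φ (up p a Q H W K) = up p a Q H W (fun q h w => φ (K q h w)) := by
  simp only [up, forceNat_eq]

theorem down_map (p : Pos) (a Q H W : ℕ) (K : ℕ → ℕ → ℕ → α) :
    φ (down p a Q H W K) = down p a Q H W (fun q h w => φ (K q h w)) := by
  simp only [down, forceNat_eq]

include hz hadd

theorem evenSigns_map (f : ℕ → ℕ → α) : ∀ (ps : List Pos) (par : Bool) (Q H W : ℕ),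
    φ (evenSigns add z f ps par Q H W) = evenSigns add' z' (fun q w => φ (f q w)) ps par Q H W := by
  intro ps
  induction ps with
  | nil => intro par Q H W; cases par <;> simp [evenSigns, hz]
  | cons p ps ih => intro par Q H W; simp only [evenSigns, hadd, up_map φ, down_map φ, ih]

theorem sumA_map {ι : Type} (g : ι → α) : ∀ ps : List ι, φ (sumA add z g ps) = sumA add' z' (fun p => φ (g p)) ps := by
  intro ps
  induction ps with
  | nil => exact hz
  | cons p ps ih => simp only [sumA, hadd, ih]

omit hz hadd in
theorem signBase_map (m : ℕ) : ∀ (ps : List Pos) (K : ℕ → ℕ → ℕ → α) (Q H W : ℕ),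
    φ (signBase m ps K Q H W) = signBase m ps (fun q h w => φ (K q h w)) Q H W := by
  intro ps
  induction ps with
  | nil => intro K Q H W; rfl
  | cons p ps ih =>
    intro K Q H W
    have e : (fun q h w => φ (signBase m ps K q h w)) = signBase m ps fun q h w => φ (K q h w) :=
      funext fun q => funext fun h => funext fun w => ih K q h w
    rw [signBase, signBase]
    cases m.testBit p.k
    · rw [cond_false, cond_false, up_map φ, e]
    · rw [cond_true, cond_true, down_map φ, e]

omit hz hadd in
theorem oddLeaf_map (f : ℕ → ℕ → α) (m Q H W : ℕ) (p : Pos) :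
    φ (oddLeaf f m Q H W p) = oddLeaf (fun q w => φ (f q w)) m Q H W p := by
  have e : (fun q h w => φ (leafQ f q h w)) = leafQ (fun q w => φ (f q w)) := rfl
  rw [oddLeaf, oddLeaf]
  cases m.testBit p.k
  · rw [cond_false, cond_false, down_map φ, e]
  · rw [cond_true, cond_true, up_map φ, e]

omit hz in
theorem pairLeaf_map (f : ℕ → ℕ → α) (Q H W : ℕ) (p : Pos) :
    φ (pairLeaf add f Q H W p) = pairLeaf add' (fun q w => φ (f q w)) Q H W p := by
  simp only [pairLeaf, hadd, up_map φ, down_map φ]; rfl

theorem pairPart_map (f : ℕ → ℕ → α) : ∀ ps : List Pos,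
    φ (pairPart add z f ps) = pairPart add' z' (fun q w => φ (f q w)) ps := by
  intro ps
  induction ps with
  | nil => exact hz
  | cons p ps ih =>
    simp only [pairPart, hadd, up_map φ, down_map φ, sumA_map φ hz hadd, pairLeaf_map φ hadd, ih]

theorem octChunk_map (f : ℕ → ℕ → α) (T : List Pos) (a : ℕ) :
    φ (octChunk add z f T a) = octChunk add' z' (fun q w => φ (f q w)) T a := by
  rw [octChunk, sumA_map φ hz hadd, octChunk]
  refine congrArg (fun g => sumA add' z' g _) (funext fun c => ?_)
  simp only [octPart, forcePos_eq, forceNat_eq]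
  cases Nat.beq ((List.range 24).filter fun k => (Golay.encode c).testBit k).length 8 <;>
    simp [hz, evenSigns_map φ hz hadd]

theorem oddChunk_map (f : ℕ → ℕ → α) (T : List Pos) (a : ℕ) :
    φ (oddChunk add z f T a) = oddChunk add' z' (fun q w => φ (f q w)) T a := by
  simp only [oddChunk, oddPart, forcePos_eq, forceNat_eq, sumA_map φ hz hadd, signBase_map φ, oddLeaf_map φ]

end Hom

/-- The sum of `f` over all leaves. -/
theorem leaves_sum (T : List Pos) (f : ℕ → ℕ → ℕ) : ((leaves T).map fun s => f s.1 s.2).sum =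
    pairPart Nat.add 0 f ((List.range 24).map (posAt T)) +
      ((List.range 8).map (octChunk Nat.add 0 f T)).sum + ((List.range 8).map (oddChunk Nat.add 0 f T)).sum := by
  set φ : List (ℕ × ℕ) → ℕ := fun L => (L.map fun s => f s.1 s.2).sum with hφ
  have hadd : ∀ a b : List (ℕ × ℕ), φ (a ++ b) = Nat.add (φ a) (φ b) := by simp [hφ]
  have hf : (fun q w => φ (single q w)) = f := by simp [hφ, single]
  show φ (leaves T) = _
  simp only [leaves, hadd, Nat.add_eq]
  refine congrArg₂ (· + ·) (congrArg₂ (· + ·) ?_ ?_) ?_
  · rw [pairPart_map φ (z' := 0) rfl hadd, hf]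
  · simp only [hφ, List.map_flatten, List.sum_flatten, List.map_map]
    refine congrArg List.sum (List.map_congr_left fun a _ => ?_)
    show φ (octChunk _ _ _ T a) = _
    rw [octChunk_map φ (z' := 0) rfl hadd, hf]
  · simp only [hφ, List.map_flatten, List.sum_flatten, List.map_map]
    refine congrArg List.sum (List.map_congr_left fun a _ => ?_)
    show φ (oddChunk _ _ _ T a) = _
    rw [oddChunk_map φ (z' := 0) rfl hadd, hf]

section Sound

variable {N : Fin 24 → Fin 24 → ℤ} {T : List Pos} (hT : PosOK N T)
include hT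

theorem posAt_k (k : Fin 24) : (posAt T k).k = k := by
  obtain ⟨p, hp, hk, -⟩ := hT.2 k
  rw [posAt, hp, hk]

theorem evenSigns_sound : ∀ (ks : List (Fin 24)), ks.Nodup → ∀ (x y : Fin 24 → ℤ) (s : St) (par : Bool),
    Good N x s → (∀ i, |x i| ≤ 4) → (∀ k ∈ ks, x k = 0 ∧ (y k = 2 ∨ y k = -2)) → (∀ k, k ∉ ks → y k = x k) →
    ((ks.filter fun k => decide (y k < 0)).length + par.toNat) % 2 = 0 →
    ∃ s', (s'.q, s'.W) ∈ evenSigns (· ++ ·) [] single (ks.map fun k : Fin 24 => posAt T k.val) par s.q s.H s.W ∧
      Good N y s' := by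
  intro ks
  induction ks with
  | nil =>
    intro _ x y s par hg _ _ hoff hpar
    obtain rfl : par = false := by cases par <;> simp_all
    exact ⟨s, by simp [evenSigns, single], by rwa [show y = x from funext fun k => hoff k (by simp)]⟩
  | cons k ks ih =>
    intro hnd x y s par hg hx hin hoff hpar
    rw [List.nodup_cons] at hnd
    obtain ⟨hk0, hk2⟩ := hin k (List.mem_cons_self ..)
    obtain ⟨⟨s1, h1, g1⟩, s2, h2, g2⟩ := good_step hT hg hx k (a := 2) (by norm_num)
    have hrec : ∀ v : ℤ, y k = v → ∀ t, Good N (x + Pi.single k v) t → ∀ q : Bool,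
        ((ks.filter fun k => decide (y k < 0)).length + q.toNat) % 2 = 0 →
        ∃ s', (s'.q, s'.W) ∈ evenSigns (· ++ ·) [] single (ks.map fun k : Fin 24 => posAt T k.val) q t.q t.H t.W ∧
          Good N y s' := by
      intro v hv t ht q hq
      refine ih hnd.2 _ y t q ht (fun i => ?_) (fun i hi => ?_) (fun i hi => ?_) hq
      · by_cases h : i = k
        · subst h; rcases hk2 with e | e <;> simp [hk0, ← hv, e]
        · simpa [h] using hx i
      · have hne : i ≠ k := fun e => hnd.1 (e ▸ hi)
        obtain ⟨a, b⟩ := hin i (List.mem_cons_of_mem _ hi)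
        exact ⟨by simp [hne, a], b⟩
      · by_cases h : i = k
        · subst h; simp [hk0, hv]
        · simpa [h] using hoff i (by simp [h, hi])
    simp only [List.map_cons, evenSigns]
    rw [show posAt T k = T.getD k ⟨0, 0, 0, 0, 0⟩ from rfl, h1, h2]
    rcases hk2 with hv | hv
    · obtain ⟨s', hm, hs'⟩ := hrec 2 hv s1 (by simpa using g1) par (by simpa [List.filter_cons, hv] using hpar)
      exact ⟨s', List.mem_append_left _ hm, hs'⟩
    · obtain ⟨s', hm, hs'⟩ := hrec (-2) hv s2 (by simpa using g2) (!par) (by
        simp only [List.filter_cons, hv, show decide ((-2 : ℤ) < 0) = true from rfl, if_true, List.length_cons] at hpar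
        cases par <;> simp at hpar ⊢ <;> omega)
      exact ⟨s', List.mem_append_right _ hm, hs'⟩

theorem signBase_sound (m : ℕ) : ∀ (ks : List (Fin 24)), ks.Nodup → ∀ (x y : Fin 24 → ℤ) (s : St),
    Good N x s → (∀ i, |x i| ≤ 4) →
    (∀ k ∈ ks, x k = 0 ∧ y k = bif m.testBit k then -1 else 1) → (∀ k, k ∉ ks → y k = x k) →
    ∃ s', Good N y s' ∧ ∀ K : ℕ → ℕ → ℕ → List (ℕ × ℕ),
      signBase m (ks.map fun k : Fin 24 => posAt T k.val) K s.q s.H s.W = K s'.q s'.H s'.W := by
  intro ks
  induction ks with
  | nil =>
    intro _ x y s hg _ _ hoff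
    exact ⟨s, by rwa [show y = x from funext fun k => hoff k (by simp)], fun K => rfl⟩
  | cons k ks ih =>
    intro hnd x y s hg hx hin hoff
    rw [List.nodup_cons] at hnd
    obtain ⟨hk0, hk1⟩ := hin k (List.mem_cons_self ..)
    obtain ⟨⟨s1, h1, g1⟩, s2, h2, g2⟩ := good_step hT hg hx k (a := 1) (by norm_num)
    obtain ⟨t, ht, gt⟩ : ∃ t, (∀ K : ℕ → ℕ → ℕ → List (ℕ × ℕ), (bif m.testBit k then
        down (posAt T k) 1 s.q s.H s.W K else up (posAt T k) 1 s.q s.H s.W K) = K t.q t.H t.W) ∧
        Good N (x + Pi.single k (y k)) t := by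
      rw [hk1]
      cases m.testBit k with
      | false => exact ⟨s1, fun K => by rw [cond_false, posAt]; exact h1 K, by simpa using g1⟩
      | true => exact ⟨s2, fun K => by rw [cond_true, posAt]; exact h2 K, by simpa using g2⟩
    obtain ⟨s', hs', hK⟩ := ih hnd.2 _ y t gt (fun i => by
      by_cases h : i = k
      · subst h; rw [Pi.add_apply, hk0, Pi.single_eq_same, hk1]; cases m.testBit i <;> simp
      · simpa [h] using hx i) (fun i hi => by
        have hne : i ≠ k := fun e => hnd.1 (e ▸ hi)
        obtain ⟨a, b⟩ := hin i (List.mem_cons_of_mem _ hi)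
        exact ⟨by simp [hne, a], b⟩) (fun i hi => by
        by_cases h : i = k
        · subst h; simp [hk0]
        · simpa [h] using hoff i (by simp [h, hi]))
    refine ⟨s', hs', fun K => ?_⟩
    simp only [List.map_cons, signBase, posAt_k hT]
    rw [ht, hK]

omit hT in
theorem mem_sumA {ι : Type} {β : Type} {g : ι → List β} {s : β} : ∀ {ps : List ι} {p : ι}, p ∈ ps → s ∈ g p →
    s ∈ sumA (· ++ ·) [] g ps := by
  intro ps
  induction ps with
  | nil => intro p h; simp at h
  | cons a ps ih =>
    intro p hp hs
    rcases List.mem_cons.1 hp with rfl | hp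
    · exact List.mem_append_left _ hs
    · exact List.mem_append_right _ (ih hp hs)

omit hT in
theorem range_map : (List.range 24).map (posAt T) = (List.finRange 24).map fun k : Fin 24 => posAt T k.val := by
  rw [← List.map_coe_finRange_eq_range, List.map_map]; rfl

theorem pairPart_sound {y : Fin 24 → ℤ} {i j : Fin 24} (hij : i < j)
    (hi : y i = 4 ∨ y i = -4) (hj : y j = 4 ∨ y j = -4) (h0 : ∀ k, k ≠ i → k ≠ j → y k = 0) :
    ∃ s : St, (s.q, s.W) ∈ pairPart (· ++ ·) [] single ((List.range 24).map (posAt T)) ∧ Good N y s := by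
  have key : ∀ ks : List (Fin 24), ks.Pairwise (· < ·) → i ∈ ks → j ∈ ks →
      ∃ s : St, (s.q, s.W) ∈ pairPart (· ++ ·) [] single (ks.map fun k : Fin 24 => posAt T k.val) ∧ Good N y s := by
    intro ks
    induction ks with
    | nil => intro _ h; simp at h
    | cons k ks ih =>
      intro hp hik hjk
      rw [List.pairwise_cons] at hp
      have hjks : j ∈ ks := by
        rcases List.mem_cons.1 hjk with rfl | h
        · rcases List.mem_cons.1 hik with h | h
          · exact absurd h (ne_of_lt hij)
          · exact absurd (hp.1 i h) (not_lt.2 hij.le)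
        · exact h
      rcases List.mem_cons.1 hik with rfl | hiks
      · obtain ⟨⟨a, ha, ga⟩, b, hb, gb⟩ := good_step hT (good_zero N) (fun _ => by simp) i (a := 4) le_rfl
        have hbd : ∀ v : ℤ, |v| ≤ 4 → ∀ l : Fin 24, |((0 : Fin 24 → ℤ) + Pi.single i v : Fin 24 → ℤ) l| ≤ 4 := by
          intro v hv l
          by_cases h : l = i
          · subst h; simpa using hv
          · simp [h]
        obtain ⟨⟨a1, h1, g1⟩, a2, h2, g2⟩ := good_step hT ga (hbd _ (by norm_num)) j (a := 4) le_rfl
        obtain ⟨⟨b1, h3, g3⟩, b2, h4, g4⟩ := good_step hT gb (hbd _ (by norm_num)) j (a := 4) le_rfl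
        have hy : y = (0 : Fin 24 → ℤ) + Pi.single i (y i) + Pi.single j (y j) := by
          funext l
          by_cases h : l = i
          · subst h; simp [ne_of_lt hij]
          · by_cases h' : l = j
            · subst h'; simp [h]
            · simp [h, h', h0 l h h']
        have hmem : ∀ t : St, t = a1 ∨ t = a2 ∨ t = b1 ∨ t = b2 →
            (t.q, t.W) ∈ pairPart (· ++ ·) [] single ((i :: ks).map fun k : Fin 24 => posAt T k.val) := by
          intro t ht
          simp only [List.map_cons, pairPart]
          refine List.mem_append_left _ ?_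
          rw [show posAt T i = T.getD i ⟨0, 0, 0, 0, 0⟩ from rfl, ha, hb]
          have hj' := List.mem_map_of_mem (f := fun k : Fin 24 => posAt T k.val) hjks
          rcases ht with e | e | e | e <;> rw [e]
          · refine List.mem_append_left _ (mem_sumA hj' ?_)
            simp only [pairLeaf, posAt, h1, h2]; simp [leafQ, single]
          · refine List.mem_append_left _ (mem_sumA hj' ?_)
            simp only [pairLeaf, posAt, h1, h2]; simp [leafQ, single]
          · refine List.mem_append_right _ (mem_sumA hj' ?_)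
            simp only [pairLeaf, posAt, h3, h4]; simp [leafQ, single]
          · refine List.mem_append_right _ (mem_sumA hj' ?_)
            simp only [pairLeaf, posAt, h3, h4]; simp [leafQ, single]
        rcases hi with e | e <;> rcases hj with e' | e' <;> rw [e, e'] at hy
        · exact ⟨a1, hmem _ (Or.inl rfl), hy ▸ (by simpa using g1)⟩
        · exact ⟨a2, hmem _ (Or.inr (Or.inl rfl)), hy ▸ (by simpa using g2)⟩
        · exact ⟨b1, hmem _ (Or.inr (Or.inr (Or.inl rfl))), hy ▸ (by simpa using g3)⟩
        · exact ⟨b2, hmem _ (Or.inr (Or.inr (Or.inr rfl))), hy ▸ (by simpa using g4)⟩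
      · obtain ⟨s, hs, hg⟩ := ih hp.2 hiks hjks
        exact ⟨s, List.mem_append_right _ hs, hg⟩
  rw [range_map]
  exact key _ (List.pairwise_lt_finRange 24) (List.mem_finRange i) (List.mem_finRange j)

omit hT in
theorem mem_octChunk {β : Type} {f : ℕ → ℕ → List β} {c : ℕ} {s : β} (hs : s ∈ octPart (· ++ ·) [] f T (Golay.encode c))
    (hc : c < 4096) : s ∈ ((List.range 8).map (octChunk (· ++ ·) [] f T)).flatten := by
  refine List.mem_flatten.2 ⟨_, List.mem_map_of_mem (List.mem_range.2 (show c / 512 < 8 by omega)), ?_⟩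
  exact mem_sumA (List.mem_range'_1.2 (by omega)) hs

omit hT in
theorem mem_oddChunk {β : Type} {f : ℕ → ℕ → List β} {c : ℕ} {s : β} (hs : s ∈ oddPart (· ++ ·) [] f T (Golay.encode c))
    (hc : c < 4096) : s ∈ ((List.range 8).map (oddChunk (· ++ ·) [] f T)).flatten := by
  refine List.mem_flatten.2 ⟨_, List.mem_map_of_mem (List.mem_range.2 (show c / 512 < 8 by omega)), ?_⟩
  exact mem_sumA (List.mem_range'_1.2 (by omega)) hs

omit hT in
theorem word_bit (m : ℕ) (k : Fin 24) :
    Golay.word (Golay.ptsOf m) (Golay.pt k) = if m.testBit k then 1 else 0 := by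
  by_cases h : m.testBit k
  · rw [if_pos h, Golay.word, if_pos (Golay.mem_ptsOf.2 (by rwa [Golay.idx_pt]))]
  · rw [if_neg h, Golay.word, if_neg fun e => h (by rw [Golay.mem_ptsOf, Golay.idx_pt] at e; exact e)]

/-- Every minimal vector has a state among the leaves. -/
theorem exists_leaf {x : GolayPt → ℤ} (hx : x ∈ leechLattice) (h32 : sqNorm x = 32) :
    ∃ s : St, (s.q, s.W) ∈ leaves T ∧ Good N (cd x) s := by
  rcases Leech.shape32 hx h32 with ⟨i, j, hij, e⟩ | ⟨w, hw, h8, e⟩ | ⟨j, e⟩
  · obtain ⟨a, b, hab, e'⟩ : ∃ a b : Fin 24, a < b ∧ ∀ k, |cd x k| = if k = a ∨ k = b then 4 else 0 := by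
      have hk : ∀ k, (Golay.pt k = i ∨ Golay.pt k = j) ↔ (k = Golay.idx i ∨ k = Golay.idx j) := fun k => by
        refine or_congr ⟨fun h => by rw [← h, Golay.idx_pt], fun h => by rw [h, Golay.pt_idx]⟩
          ⟨fun h => by rw [← h, Golay.idx_pt], fun h => by rw [h, Golay.pt_idx]⟩
      rcases lt_or_gt_of_ne (fun h => hij (Golay.ptEquiv.injective h) : Golay.idx i ≠ Golay.idx j) with h | h
      · exact ⟨_, _, h, fun k => by rw [cd, e]; simp only [hk]⟩
      · exact ⟨_, _, h, fun k => by rw [cd, e]; simp only [hk, or_comm]⟩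
    obtain ⟨s, hs, hg⟩ := pairPart_sound hT hab
      ((abs_eq (by norm_num)).1 (by simpa using e' a)) ((abs_eq (by norm_num)).1 (by simpa using e' b))
      fun k h1 h2 => by simpa [h1, h2] using e' k
    exact ⟨s, List.mem_append_left _ (List.mem_append_left _ hs), hg⟩
  · obtain ⟨c, hc, rfl⟩ := Golay.exists_encode hw
    set m := Golay.encode c
    have hy : ∀ k : Fin 24, |cd x k| = if m.testBit k then 2 else 0 := fun k => by
      rw [cd, e, word_bit]
      cases m.testBit k <;> simp
    set ks := (List.finRange 24).filter fun k : Fin 24 => m.testBit k with hks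
    have hrange : (List.range 24).filter (fun k => m.testBit k) = ks.map Fin.val := by
      rw [hks, ← List.map_coe_finRange_eq_range, List.filter_map]; rfl
    have hnd : ks.Nodup := (List.nodup_finRange 24).filter _
    have hlen : ks.length = 8 := by
      rw [← List.toFinset_card_of_nodup hnd, ← h8]
      refine Finset.card_nbij' Golay.pt Golay.idx (fun k hk => ?_) (fun p hp => ?_)
        (fun k _ => Golay.idx_pt k) (fun p _ => Golay.pt_idx p)
      · simp only [hks, Finset.mem_coe, List.mem_toFinset, List.mem_filter] at hk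
        simp [support₂, word_bit, hk.2]
      · simp only [support₂, Finset.mem_coe, Finset.mem_filter] at hp
        simp only [hks, Finset.mem_coe, List.mem_toFinset, List.mem_filter, List.mem_finRange, true_and]
        by_contra hbit
        exact hp.2 (by rw [← Golay.pt_idx p, word_bit, if_neg hbit])
    have hin : ∀ k ∈ ks, cd x k = 2 ∨ cd x k = -2 := fun k hk => by
      rw [hks, List.mem_filter] at hk
      exact (abs_eq (by norm_num)).1 (by rw [hy, if_pos hk.2])
    have hout : ∀ k, k ∉ ks → cd x k = 0 := fun k hk => by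
      rw [hks, List.mem_filter, not_and] at hk
      exact abs_eq_zero.1 (by rw [hy, if_neg (hk (List.mem_finRange k))])
    have hcount : ∀ l : List (Fin 24), (∀ k ∈ l, cd x k = 2 ∨ cd x k = -2) →
        (l.map (cd x)).sum = 2 * (l.length : ℤ) - 4 * ((l.filter fun k => decide (cd x k < 0)).length : ℤ) := by
      intro l
      induction l with
      | nil => simp
      | cons a l ih =>
        intro hl
        rw [List.map_cons, List.sum_cons, ih fun k hk => hl k (List.mem_cons_of_mem _ hk)]
        rcases hl a (List.mem_cons_self ..) with e | e <;> simp [List.filter_cons, e] <;> ring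
    have hsum : (∑ k, cd x k) = 2 * (ks.length : ℤ) - 4 * ((ks.filter fun k => decide (cd x k < 0)).length : ℤ) := by
      rw [← hcount ks hin, ← List.sum_toFinset _ hnd]
      exact (Finset.sum_subset (Finset.subset_univ _) fun k _ hk => hout k (by simpa using hk)).symm
    have h8' : (∑ k, cd x k) % 8 = 0 := by
      rw [show (∑ k, cd x k) = ∑ p, x p from sum_cd x]
      rcases Leech.mem_leech_iff.1 hx with ⟨-, q, -⟩ | ⟨p, -, -⟩
      · exact q
      · exfalso
        have h1 := p (Golay.pt (ks.getD 0 0))
        have : ks.getD 0 0 ∈ ks := by rw [List.getD_eq_getElem _ _ (by omega)]; exact List.getElem_mem _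
        rcases hin _ this with e | e <;> rw [cd] at e <;> omega
    obtain ⟨s, hs, hg⟩ := evenSigns_sound hT ks hnd 0 (cd x) st0 false (good_zero N) (fun _ => by simp)
      (fun k hk => ⟨rfl, hin k hk⟩) (fun k hk => by rw [hout k hk]; rfl) (by
        rw [hsum, hlen] at h8'; simp only [Bool.toNat_false]; omega)
    refine ⟨s, List.mem_append_left _ (List.mem_append_right _ (mem_octChunk ?_ hc)), hg⟩
    rw [octPart, forceNat_eq, forcePos_eq, hrange, List.length_map, hlen, List.map_map]
    exact hs
  · obtain ⟨hodd, -, hcode⟩ : (∀ p, x p % 2 = 1) ∧ (∑ p, x p) % 8 = 4 ∧ Leech.hw x ∈ golayCode := by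
      rcases Leech.mem_leech_iff.1 hx with ⟨p, -, -⟩ | h
      · have := p j; have := e j; rw [if_pos rfl] at this; rcases abs_choice (x j) with q | q <;> omega
      · exact h
    obtain ⟨c, hc, hcw⟩ := Golay.exists_encode hcode
    set m := Golay.encode c
    set k₀ := Golay.idx j
    have hbit : ∀ k : Fin 24, (m.testBit k = true ↔ (x (Golay.pt k) / 2 % 2 = 1)) := fun k => by
      have h1 := congrFun hcw (Golay.pt k)
      rw [word_bit, Leech.hw] at h1
      cases hb : m.testBit k
      · rw [hb, if_neg Bool.false_ne_true, ZMod.intCast_zmod_eq_zero_iff_dvd] at h1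
        simp only [Bool.false_eq_true, false_iff]; omega
      · rw [hb, if_pos rfl] at h1
        simp only [true_iff]
        exact Leech.intCast_zmod2_ne_zero.1 (by rw [h1]; decide)
    have hy : ∀ k, cd x k = bif m.testBit k then (if k = k₀ then 3 else -1) else (if k = k₀ then -3 else 1) := by
      intro k
      have h1 := e (Golay.pt k)
      have h2 := hbit k
      have h3 : (Golay.pt k = j) ↔ k = k₀ :=
        ⟨fun h => by rw [← Golay.idx_pt k, h], fun h => by rw [h, Golay.pt_idx]⟩
      rw [cd]
      by_cases hk : k = k₀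
      · rw [if_pos (h3.2 hk)] at h1
        rcases (abs_eq (by norm_num)).1 h1 with q | q <;> rw [q] at h2 ⊢ <;>
          cases hb : m.testBit k <;> rw [hb] at h2 <;> simp [hk] at h2 ⊢
      · rw [if_neg (fun h => hk (h3.1 h))] at h1
        rcases (abs_eq (by norm_num)).1 h1 with q | q <;> rw [q] at h2 ⊢ <;>
          cases hb : m.testBit k <;> rw [hb] at h2 <;> simp [hk] at h2 ⊢
    set b : Fin 24 → ℤ := fun k => bif m.testBit k then -1 else 1
    obtain ⟨t, ht, hK⟩ := signBase_sound hT m (List.finRange 24) (List.nodup_finRange 24) 0 b st0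
      (good_zero N) (fun _ => by simp) (fun k _ => ⟨rfl, rfl⟩) (fun k hk => absurd (List.mem_finRange k) hk)
    obtain ⟨⟨s1, hs1, hg1⟩, s2, hs2, hg2⟩ := good_step hT ht
      (fun k => by simp only [b]; cases m.testBit k <;> simp) k₀ (a := 4) le_rfl
    have heq : cd x = b + Pi.single k₀ (bif m.testBit k₀ then 4 else -4) := by
      funext k
      rw [hy k, Pi.add_apply]
      by_cases hk : k = k₀
      · subst hk; cases hb : m.testBit k₀ <;> simp [b, hb]
      · cases hb : m.testBit k <;> simp [b, hk, hb]
    have hmem : ∀ s : St, ((s.q, s.W) ∈ oddLeaf single m t.q t.H t.W (posAt T k₀)) →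
        (s.q, s.W) ∈ leaves T := fun s h => by
      refine List.mem_append_right _ (mem_oddChunk ?_ hc)
      rw [oddPart, forceNat_eq, forcePos_eq, range_map, hK]
      exact mem_sumA (List.mem_map_of_mem (List.mem_finRange k₀)) h
    cases hb : m.testBit k₀ with
    | true =>
      rw [hb, cond_true] at heq
      exact ⟨s1, hmem s1 (by rw [oddLeaf, posAt_k hT, hb, cond_true, posAt, hs1]; simp [leafQ, single]),
        heq ▸ (by simpa using hg1)⟩
    | false =>
      rw [hb, cond_false] at heq
      exact ⟨s2, hmem s2 (by rw [oddLeaf, posAt_k hT, hb, cond_false, posAt, hs2]; simp [leafQ, single]),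
        heq ▸ (by simpa using hg2)⟩

end Sound

end Cfsg.Agent.Lib.CoFive
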