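import Mathlib
import Cfsg.Agent.Lib.Compute.Chain

/-!
Integer vectors packed into one integer, sixteen bits to a coordinate, with signed entries.
-/

set_option autoImplicit false

namespace Cfsg.Agent.Lib.CoFive


/-- The packed form of a vector. -/
def pack {n : ℕ} (f : Fin n → ℤ) : ℤ := ∑ k, f k * 65536 ^ (k : ℕ)

theorem pack_add {n : ℕ} (f g : Fin n → ℤ) : pack (f + g) = pack f + pack g := by
  simp only [pack, Pi.add_apply, add_mul, Finset.sum_add_distrib]

theorem pack_smul {n : ℕ} (c : ℤ) (f : Fin n → ℤ) : pack (fun k => c * f k) = c * pack f := by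
  simp only [pack, Finset.mul_sum, mul_assoc]

theorem pack_single {n : ℕ} (k : Fin n) (c : ℤ) : pack (Pi.single k c) = c * 65536 ^ (k : ℕ) := by
  rw [pack, Finset.sum_eq_single k (fun i _ hi => by simp [hi]) (by simp), Pi.single_eq_same]

theorem pack_succ {n : ℕ} (f : Fin (n + 1) → ℤ) :
    pack f = f 0 + 65536 * pack (fun k => f k.succ) := by
  simp only [pack, Fin.sum_univ_succ, Fin.val_zero, pow_zero, mul_one, Fin.val_succ, pow_succ,
    Finset.mul_sum]
  exact congrArg (f 0 + ·) (Finset.sum_congr rfl fun k _ => by ring)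

theorem digit_pack : ∀ {n : ℕ} (g : Fin n → ℕ), (∀ k, g k < 65536) → ∀ (k : Fin n) (N : ℕ),
    (N : ℤ) = pack (fun k => (g k : ℤ)) → N / 65536 ^ (k : ℕ) % 65536 = g k := by
  intro n
  induction n with
  | zero => exact fun g _ k => k.elim0
  | succ n ih =>
    intro g hg k N hN
    rw [pack_succ] at hN
    have hnn : 0 ≤ pack (fun k : Fin n => (g k.succ : ℤ)) :=
      Finset.sum_nonneg fun i _ => by positivity
    obtain ⟨M, hM⟩ := Int.eq_ofNat_of_zero_le hnn
    rw [hM] at hN
    have hN' : N = g 0 + 65536 * M := by exact_mod_cast hN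
    have h0 := hg 0
    induction k using Fin.cases with
    | zero => rw [Fin.val_zero, pow_zero, Nat.div_one, hN']; omega
    | succ i =>
      rw [Fin.val_succ, pow_succ', ← Nat.div_div_eq_div_mul, hN',
        Nat.add_mul_div_left _ _ (by norm_num : 0 < 65536), Nat.div_eq_of_lt h0, zero_add]
      exact ih _ (fun i => hg i.succ) i M hM.symm

/-- Offsets making every lane positive. -/
def off24 : ℤ := 0x800080008000800080008000800080008000800080008000800080008000800080008000800080008000800080008000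

theorem off24_eq : off24 = pack (fun _ : Fin 24 => (32768 : ℤ)) := by decide +kernel

/-- A lane of a shifted packed vector. -/
noncomputable def lane (off : ℤ) (m : ℕ) (z : ℤ) : ℤ :=
  Int.subNatNat ((z + off).toNat.shiftRight (16 * m) % 65536) 32768

theorem lane_pack {n : ℕ} {off : ℤ} (hoff : off = pack (fun _ : Fin n => (32768 : ℤ)))
    (f : Fin n → ℤ) (hf : ∀ k, -32768 ≤ f k ∧ f k < 32768) (m : Fin n) :
    lane off m (pack f) = f m := by
  have e : pack f + off = pack (fun k => ((f k + 32768).toNat : ℤ)) := by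
    rw [hoff, ← pack_add]
    refine congrArg pack (funext fun k => ?_)
    rw [Int.toNat_of_nonneg (by have := hf k; omega)]; rfl
  have hnn : 0 ≤ pack f + off := e ▸ Finset.sum_nonneg fun i _ => by positivity
  have hd := digit_pack (fun k => (f k + 32768).toNat) (fun k => by have := hf k; omega) m
    (pack f + off).toNat (by rw [Int.toNat_of_nonneg hnn, e])
  rw [lane, Nat.shiftRight_eq, Nat.shiftRight_eq_div_pow, pow_mul, show (2 : ℕ) ^ 16 = 65536 by norm_num,
    hd, Int.subNatNat_eq_coe]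
  have := hf m
  omega

/-- The product of two packed vectors, and its middle coefficient. -/
theorem mul_pack (x u : Fin 24 → ℤ) : ∃ c : Fin 47 → ℤ, pack x * pack (fun j : Fin 24 => u j.rev) = pack c ∧
    (∀ A : ℤ, (∀ i, |x i| ≤ A) → (∀ i, |u i| ≤ A) → ∀ m, |c m| ≤ 24 * (A * A)) ∧
    ((∀ i, 0 ≤ x i) → (∀ i, 0 ≤ u i) → ∀ m, 0 ≤ c m) ∧ c 23 = ∑ i, x i * u i := by
  refine ⟨fun m => ∑ i : Fin 24, ∑ j : Fin 24, if (i : ℕ) + j = m then x i * u j.rev else 0, ?_, ?_, ?_, ?_⟩
  · simp only [pack, Finset.sum_mul, Finset.mul_sum]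
    rw [Finset.sum_comm]
    conv_rhs => rw [Finset.sum_comm]; arg 2; ext i; rw [Finset.sum_comm]
    refine Finset.sum_congr rfl fun i _ => Finset.sum_congr rfl fun j _ => ?_
    rw [Finset.sum_eq_single (⟨(j : ℕ) + i, by omega⟩ : Fin 47)]
    · rw [if_pos (Nat.add_comm _ _)]; simp only [pow_add]; ring
    · intro m _ hm
      rw [if_neg fun h => hm (Fin.ext (by simp only; omega)), zero_mul]
    · simp
  · intro A hx hu m
    have hA : 0 ≤ A := (abs_nonneg _).trans (hx 0)
    refine (Finset.abs_sum_le_sum_abs _ _).trans ((Finset.sum_le_card_nsmul _ _ (A * A) fun i _ => ?_).trans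
      (by simp))
    by_cases h : (m : ℕ) < i ∨ (m : ℕ) ≥ i + 24
    · rw [Finset.sum_eq_zero fun j _ => if_neg (by omega), abs_zero]; exact mul_nonneg hA hA
    · rw [Finset.sum_eq_single (⟨(m : ℕ) - i, by omega⟩ : Fin 24)]
      · rw [if_pos (by simp only; omega), abs_mul]
        exact mul_le_mul (hx _) (hu _) (abs_nonneg _) hA
      · exact fun j _ hj => if_neg fun e => hj (Fin.ext (by simp only; omega))
      · simp
  · intro hx hu m
    refine Finset.sum_nonneg fun i _ => Finset.sum_nonneg fun j _ => ?_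
    split
    · exact mul_nonneg (hx i) (hu _)
    · exact le_rfl
  · refine Finset.sum_congr rfl fun i _ => ?_
    rw [Finset.sum_eq_single i.rev]
    · rw [Fin.rev_rev, if_pos (by simp only [Fin.val_rev]; omega)]
    · intro j _ hj
      exact if_neg fun h => hj (Fin.ext (by simp only [Fin.val_rev] at h ⊢; omega))
    · simp

/-- The middle coefficient of a product. -/
noncomputable def coeff (n r : ℕ) : ℕ := Nat.land (Nat.shiftRight (Nat.mul n r) 368) 65535

theorem coeff_eq {x u : Fin 24 → ℤ} (hx : ∀ i, 0 ≤ x i ∧ x i ≤ 32) (hu : ∀ i, 0 ≤ u i ∧ u i ≤ 32) {n r : ℕ}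
    (hn : (n : ℤ) = pack x) (hr : (r : ℤ) = pack (fun j : Fin 24 => u j.rev)) :
    (coeff n r : ℤ) = ∑ i, x i * u i := by
  obtain ⟨c, e, hb, hnn, hc⟩ := mul_pack x u
  have hb' := hb 32 (fun i => by rw [abs_of_nonneg (hx i).1]; exact (hx i).2)
    (fun i => by rw [abs_of_nonneg (hu i).1]; exact (hu i).2)
  have hnn' := hnn (fun i => (hx i).1) fun i => (hu i).1
  have hd := digit_pack (fun m => (c m).toNat) (fun m => by have := abs_le.1 (hb' m); omega) 23 (n * r)
    (by rw [Nat.cast_mul, hn, hr, e]; exact congrArg pack (funext fun m => (Int.toNat_of_nonneg (hnn' m)).symm))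
  show (((n * r) >>> 368 &&& (2 ^ 16 - 1) : ℕ) : ℤ) = _
  rw [Nat.and_two_pow_sub_one_eq_mod, Nat.shiftRight_eq_div_pow, show (368 : ℕ) = 16 * ((23 : Fin 47) : ℕ) from rfl,
    pow_mul, show (2 : ℕ) ^ 16 = 65536 by norm_num, hd, Int.toNat_of_nonneg (hnn' 23), hc]

end Cfsg.Agent.Lib.CoFive
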