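import Cfsg.Agent.Lib.CoFive.Mat

/-!
Lines as blocks of vectors given by representatives, and maps respecting them.
-/

set_option autoImplicit false

namespace Cfsg.Agent.Lib.CoFive

open Cfsg
open Cfsg.Agent.Lib
open Cfsg.Agent.Lib.Compute

/-- The vector of a nibble code. -/
def dec (c : ℕ) (k : Fin 24) : ℤ := Int.subNatNat (c / 16 ^ (k : ℕ) % 16) 8

/-- The combination of packed rows with the coefficients in a nibble code. -/
noncomputable def combC : List ℤ → ℕ → ℤ
  | [], _ => 0
  | r :: rs, c => Int.subNatNat (Nat.land c 15) 8 * r + combC rs (Nat.shiftRight c 4)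

theorem combC_ofFn : ∀ {n : ℕ} (r : Fin n → ℤ) (c : ℕ),
    combC (List.ofFn r) c = ∑ k : Fin n, Int.subNatNat (c / 16 ^ (k : ℕ) % 16) 8 * r k := by
  intro n
  induction n with
  | zero => intro r c; simp [combC]
  | succ n ih =>
    intro r c
    rw [List.ofFn_succ, combC, ih, Fin.sum_univ_succ, Fin.val_zero, pow_zero, Nat.div_one]
    refine congrArg₂ (· + ·) ?_ (Finset.sum_congr rfl fun k _ => ?_)
    · show Int.subNatNat (c &&& (2 ^ 4 - 1)) 8 * r 0 = _
      rw [Nat.and_two_pow_sub_one_eq_mod]
    · rw [Nat.shiftRight_eq, Nat.shiftRight_eq_div_pow, show (2 : ℕ) ^ 4 = 16 by norm_num,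
        Nat.div_div_eq_div_mul, Fin.val_succ, pow_succ']

theorem dec_bound (c : ℕ) (k : Fin 24) : |dec c k| ≤ 8 := by
  rw [dec, Int.subNatNat_eq_coe]
  have := Nat.mod_lt (c / 16 ^ (k : ℕ)) (show 0 < 16 by norm_num)
  rw [abs_le]; omega

theorem nibble_inj : ∀ (n : ℕ) {c d : ℕ}, c < 16 ^ n → d < 16 ^ n →
    (∀ k < n, c / 16 ^ k % 16 = d / 16 ^ k % 16) → c = d := by
  intro n
  induction n with
  | zero => intro c d hc hd _; simp at hc hd; omega
  | succ n ih =>
    intro c d hc hd h
    have e : c / 16 = d / 16 := ih (by rw [pow_succ] at hc; omega) (by rw [pow_succ] at hd; omega) fun k hk => by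
      rw [Nat.div_div_eq_div_mul, Nat.div_div_eq_div_mul, ← pow_succ']; exact h (k + 1) (by omega)
    have h0 : c % 16 = d % 16 := by simpa using h 0 (by omega)
    omega

theorem dec_inj {c d : ℕ} (hc : c < 16 ^ 24) (hd : d < 16 ^ 24) (h : dec c = dec d) : c = d :=
  nibble_inj 24 hc hd fun k hk => by
    have := congrFun h ⟨k, hk⟩
    simp only [dec, Int.subNatNat_eq_coe] at this
    omega

/-- The image of a code under a table is the packed combination. -/
theorem pack_apply {g : Co0} {L : List (List ℤ)} (hg : RowsOK g L) {c : ℕ} {w : leechLattice}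
    (hw : cd (w : GolayPt → ℤ) = dec c) :
    combC (List.ofFn fun k => pack (ent L k)) c = 8 * pack (cd ((g • w : leechLattice) : GolayPt → ℤ)) := by
  rw [combC_ofFn]
  simp only [pack, Finset.mul_sum]
  rw [Finset.sum_comm]
  refine Finset.sum_congr rfl fun j _ => ?_
  rw [← mul_assoc, hg.apply, hw, Finset.sum_mul]
  exact Finset.sum_congr rfl fun i _ => (mul_assoc _ _ _).symm

/-- The vectors of a block: the translates, up to sign, of its representatives. -/
def InLine (A : ℕ → Co0) (reps : List (List ℕ)) (i : ℕ) (v : leechLattice) : Prop :=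
  ∃ c ∈ reps.getD i [], ∃ w : leechLattice, cd (w : GolayPt → ℤ) = dec c ∧
    ∃ m < 5, v = A m • w ∨ v = -(A m • w)

/-- The hint for one representative. -/
noncomputable def hintTest (rows : List (List ℤ)) (one : List ℤ) (tgt : List ℕ) (c h : ℕ) : Bool :=
  Nat.blt (Nat.land h 15) tgt.length && Nat.blt (Nat.land (Nat.shiftRight h 4) 7) 5 &&
    bif Nat.blt h 128 then decide (combC (rows.getD (Nat.land (Nat.shiftRight h 4) 7) []) c =
      combC one (tgt.getD (Nat.land h 15) 0))
    else decide (combC (rows.getD (Nat.land (Nat.shiftRight h 4) 7) []) c =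
      -combC one (tgt.getD (Nat.land h 15) 0))

/-- One line. -/
noncomputable def hintsTest (rows : List (List ℤ)) (one : List ℤ) (tgt : List ℕ) : List ℕ → List ℕ → Bool
  | [], [] => true
  | c :: cs, h :: hs => hintTest rows one tgt c h && hintsTest rows one tgt cs hs
  | _, _ => false

/-- A run of lines under a permutation code, from line `i` on. -/
noncomputable def mapTest (rows : List (List ℤ)) (one : List ℤ) (reps : List (List ℕ)) (code : ℕ) :
    List (List ℕ) → List (List ℕ) → ℕ → Bool
  | [], [], _ => true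
  | L :: Ls, H :: Hs, i => hintsTest rows one (reps.getD (getP 9 code i) []) L H &&
      mapTest rows one reps code Ls Hs (i + 1)
  | _, _, _ => false

theorem hintsTest_get {rows : List (List ℤ)} {one : List ℤ} {tgt : List ℕ} :
    ∀ {cs hs : List ℕ}, hintsTest rows one tgt cs hs = true → ∀ c ∈ cs, ∃ h, hintTest rows one tgt c h = true := by
  intro cs
  induction cs with
  | nil => intro hs _ c hc; simp at hc
  | cons a cs ih =>
    intro hs h c hc
    cases hs with
    | nil => simp [hintsTest] at h
    | cons b hs =>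
      simp only [hintsTest, Bool.and_eq_true] at h
      rcases List.mem_cons.1 hc with rfl | hc
      · exact ⟨b, h.1⟩
      · exact ih h.2 c hc

theorem mapTest_get {rows : List (List ℤ)} {one : List ℤ} {reps : List (List ℕ)} {code : ℕ} :
    ∀ {Ls Hs : List (List ℕ)} {i : ℕ}, mapTest rows one reps code Ls Hs i = true →
      ∀ k, ∀ c ∈ Ls.getD k [], ∃ h, hintTest rows one (reps.getD (getP 9 code (i + k)) []) c h = true := by
  intro Ls
  induction Ls with
  | nil => intro Hs i _ k c hc; simp at hc
  | cons L Ls ih =>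
    intro Hs i h k c hc
    cases Hs with
    | nil => simp [mapTest] at h
    | cons H Hs =>
      simp only [mapTest, Bool.and_eq_true] at h
      cases k with
      | zero => exact hintsTest_get h.1 c (by simpa using hc)
      | succ k => rw [show i + (k + 1) = i + 1 + k by omega]; exact ih h.2 k c (by simpa using hc)

theorem neg_cd (v : leechLattice) : cd ((-v : leechLattice) : GolayPt → ℤ) = -cd (v : GolayPt → ℤ) := rfl

theorem pack_neg (f : Fin 24 → ℤ) : pack (-f) = -pack f := by
  simp [pack, Finset.sum_neg_distrib]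

theorem cd_bound_smul {g : Co0} {L : List (List ℤ)} (hg : RowsOK g L) (hL : Small L) {c : ℕ} {w : leechLattice}
    (hw : cd (w : GolayPt → ℤ) = dec c) (j : Fin 24) :
    |cd ((g • w : leechLattice) : GolayPt → ℤ) j| < 32768 := by
  have e := hg.apply w j
  have hb : |∑ i, cd (w : GolayPt → ℤ) i * ent L i j| ≤ 24 * 64 := by
    refine (Finset.abs_sum_le_sum_abs _ _).trans ((Finset.sum_le_card_nsmul _ _ 64 fun i _ => ?_).trans (by simp))
    rw [abs_mul, hw]
    exact mul_le_mul (dec_bound c i) (hL i j) (abs_nonneg _) (by norm_num)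
  have := abs_le.1 hb
  rw [abs_lt]; omega

/-- A checked element maps blocks to blocks. -/
theorem inLine_map {A : ℕ → Co0} {reps : List (List ℕ)} {g : Co0} {tabs : ℕ → List (List ℤ)}
    {rows : List (List ℤ)} {one : List ℤ} {hints : List (List ℕ)} {code : ℕ}
    (hA : ∀ m < 5, A m = A 1 ^ m) (hcomm : Commute g (A 1)) (h5 : A 1 ^ 5 = 1)
    (htab : ∀ m < 5, RowsOK (A m * g) (tabs m) ∧ Small (tabs m) ∧
      rows.getD m [] = List.ofFn fun k => pack (ent (tabs m) k))
    (hone : one = List.ofFn fun k => pack (ent oneTab k))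
    (ht : mapTest rows one reps code reps hints 0 = true) {i : ℕ} {v : leechLattice}
    (hv : InLine A reps i v) : InLine A reps (getP 9 code i) (g • v) := by
  obtain ⟨c, hc, w, hw, m, hm, hvw⟩ := hv
  obtain ⟨h, hh⟩ := mapTest_get ht i c hc
  rw [Nat.zero_add] at hh
  simp only [hintTest, Bool.and_eq_true, Nat.blt_eq] at hh
  obtain ⟨⟨hk, hm'⟩, heq⟩ := hh
  set m' := Nat.land (Nat.shiftRight h 4) 7
  set tgt := reps.getD (getP 9 code i) []
  set c' := tgt.getD (Nat.land h 15) 0
  have hc' : c' ∈ tgt := by
    show tgt.getD (Nat.land h 15) 0 ∈ tgt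
    rw [List.getD_eq_getElem _ _ hk]; exact List.getElem_mem _
  obtain ⟨hr, hs, hrow⟩ := htab m' hm'
  have e := pack_apply hr hw
  have hbd := cd_bound_smul hr hs hw
  rw [← hrow] at e
  have eone : combC one c' = 8 * pack (dec c') := by
    rw [hone, combC_ofFn, ← pack_smul]
    have hrow' : ∀ k : Fin 24, ent oneTab k = Pi.single k 8 := by decide +kernel
    simp only [hrow', pack_single]
    refine Finset.sum_congr rfl fun k _ => ?_
    simp only [dec]; ring
  obtain ⟨w', hw', hgw⟩ : ∃ w' : leechLattice, cd (w' : GolayPt → ℤ) = dec c' ∧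
      ((A m' * g) • w = w' ∨ (A m' * g) • w = -w') := by
    have hbnd : ∀ j, -32768 ≤ dec c' j ∧ dec c' j < 32768 := fun j => by have := abs_le.1 (dec_bound c' j); omega
    cases hb : Nat.blt h 128 with
    | true =>
      rw [hb, cond_true, decide_eq_true_eq, e, eone] at heq
      refine ⟨(A m' * g) • w, ?_, Or.inl rfl⟩
      exact pack_inj (fun j => by have := abs_lt.1 (hbd j); omega) hbnd (by omega)
    | false =>
      rw [hb, cond_false, decide_eq_true_eq, e, eone] at heq
      refine ⟨-((A m' * g) • w), ?_, Or.inr (neg_neg _).symm⟩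
      rw [neg_cd]
      refine pack_inj (fun j => by have := abs_lt.1 (hbd j); simp only [Pi.neg_apply]; omega) hbnd ?_
      rw [pack_neg]; omega
  refine ⟨c', hc', w', hw', (m + (5 - m')) % 5, Nat.mod_lt _ (by norm_num), ?_⟩
  have hgm : g * A m = A ((m + (5 - m')) % 5) * (A m' * g) := by
    rw [← mul_assoc, hA m hm, hA m' hm', hA _ (Nat.mod_lt _ (by norm_num)), ← pow_add, (hcomm.pow_right m).eq]
    congr 1
    refine pow_eq_pow_iff_modEq.2 ?_
    have hd : orderOf (A 1) ∣ 5 := orderOf_dvd_of_pow_eq_one h5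
    refine Nat.ModEq.of_dvd hd ?_
    show m % 5 = ((m + (5 - m')) % 5 + m') % 5
    omega
  have hgv : g • (A m • w) = A ((m + (5 - m')) % 5) • ((A m' * g) • w) := by rw [← mul_smul, hgm, mul_smul]
  rcases hgw with q | q <;> rw [q] at hgv
  · rcases hvw with rfl | rfl
    · exact Or.inl hgv
    · exact Or.inr (by rw [Leech.smul_neg', hgv])
  · rw [Leech.smul_neg'] at hgv
    rcases hvw with rfl | rfl
    · exact Or.inr hgv
    · exact Or.inl (by rw [Leech.smul_neg', hgv, neg_neg])

/-- The representatives are the largest in their orbits. -/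
noncomputable def canonTest (P : List (List ℤ)) (one : List ℤ) (c : ℕ) : Bool :=
  Nat.blt c 0x1000000000000000000000000 &&
    (P.all fun rows => decide (combC rows c ≤ combC one c) && decide (-combC one c ≤ combC rows c))

/-- The first representative of each line occurs in no other line. -/
noncomputable def headsTest (reps : List (List ℕ)) : Bool :=
  (List.range reps.length).all fun i => forceNat ((reps.getD i []).headD 0) fun c =>
    (List.range reps.length).all fun j => Nat.beq i j || !((reps.getD j []).any (Nat.beq c))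

theorem inLine_unique {A : ℕ → Co0} {reps : List (List ℕ)} {tabs : ℕ → List (List ℤ)} {Ps : List (List ℤ)}
    (hA : ∀ m < 5, A m = A 1 ^ m) (h5 : A 1 ^ 5 = 1)
    (htab : ∀ m < 5, RowsOK (A m) (tabs m) ∧ Small (tabs m) ∧
      List.ofFn (fun k => pack (ent (tabs m) k)) ∈ Ps)
    {one : List ℤ} (hone : one = List.ofFn fun k => pack (ent oneTab k))
    (hcan : ∀ L ∈ reps, L.all (canonTest Ps one) = true) (hheads : headsTest reps = true) {i j : ℕ}
    (hi : i < reps.length) (hne : reps.getD i [] ≠ []) {w : leechLattice}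
    (hw : cd (w : GolayPt → ℤ) = dec ((reps.getD i []).headD 0)) (hj : InLine A reps j w) : i = j := by
  obtain ⟨c, hc, u, hu, m, hm, hwu⟩ := hj
  set c₀ := (reps.getD i []).headD 0
  have hj : j < reps.length := by
    by_contra hjn; rw [List.getD_eq_default _ _ (by omega)] at hc; simp at hc
  have hc₀ : c₀ ∈ reps.getD i [] := by
    show (reps.getD i []).headD 0 ∈ reps.getD i []
    cases h : reps.getD i [] with
    | nil => exact absurd h hne
    | cons a l => exact List.mem_cons_self ..
  have hmem : ∀ k < reps.length, ∀ d ∈ reps.getD k [], canonTest Ps one d = true := fun k hk d hd => by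
    rw [List.getD_eq_getElem _ _ hk] at hd
    exact List.all_eq_true.1 (hcan _ (List.getElem_mem hk)) d hd
  -- the canonical representative dominates every translate
  have hdom : ∀ d, canonTest Ps one d = true → ∀ z : leechLattice, cd (z : GolayPt → ℤ) = dec d → ∀ n < 5,
      |pack (cd ((A n • z : leechLattice) : GolayPt → ℤ))| ≤ pack (dec d) ∧ d < 16 ^ 24 := by
    intro d hd z hz n hn
    simp only [canonTest, Bool.and_eq_true, List.all_eq_true, decide_eq_true_eq, Nat.blt_eq] at hd
    obtain ⟨hr, -, hmemP⟩ := htab n hn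
    have h1 := hd.2 _ hmemP
    rw [pack_apply hr hz, hone, pack_apply rowsOK_one hz, one_smul, hz] at h1
    exact ⟨abs_le.2 ⟨by omega, by omega⟩, by norm_num; exact hd.1⟩
  obtain ⟨hle, hclt⟩ := hdom c (hmem j hj c hc) u hu m hm
  obtain ⟨hle', hc₀lt⟩ := hdom c₀ (hmem i hi c₀ hc₀) w hw ((5 - m) % 5) (Nat.mod_lt _ (by norm_num))
  have hinv : A ((5 - m) % 5) • (A m • u) = u := by
    rw [← mul_smul, hA _ (Nat.mod_lt _ (by norm_num)), hA m hm, ← pow_add]
    have : A 1 ^ ((5 - m) % 5 + m) = 1 := by
      obtain ⟨q, hq⟩ : 5 ∣ (5 - m) % 5 + m := by omega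
      rw [hq, pow_mul, h5, one_pow]
    rw [this, one_smul]
  have e1 : pack (cd (w : GolayPt → ℤ)) ≤ pack (dec c) := by
    refine le_trans (le_abs_self _) ?_
    rcases hwu with rfl | rfl
    · exact hle
    · rw [neg_cd, pack_neg, abs_neg]; exact hle
  have e2 : pack (dec c) ≤ pack (dec c₀) := by
    rw [← hu]
    refine le_trans (le_abs_self _) ?_
    rcases hwu with e | e <;> rw [e] at hle'
    · rwa [hinv] at hle'
    · rwa [Leech.smul_neg', hinv, neg_cd, pack_neg, abs_neg] at hle'
  rw [hw] at e1
  have hb : ∀ (d : ℕ) (k : Fin 24), -32768 ≤ dec d k ∧ dec d k < 32768 := fun d k => by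
    have := abs_le.1 (dec_bound d k); omega
  have heq : c₀ = c := dec_inj hc₀lt hclt (pack_inj (hb c₀) (hb c) (le_antisymm e1 e2))
  by_contra hij
  simp only [headsTest, List.all_eq_true, List.mem_range, forceNat_eq, Bool.or_eq_true, Bool.not_eq_true'] at hheads
  rcases hheads i hi j hj with h | h
  · exact hij (Nat.eq_of_beq_eq_true h)
  · rw [List.any_eq_false] at h
    exact h c hc (by rw [show (reps.getD i []).headD 0 = c from heq]; exact Nat.beq_refl c)

end Cfsg.Agent.Lib.CoFive
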