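import Cfsg.Agent.Lib.JankoTwoType.Adapter

/-!
`Ω⁻(4, 2)` is the alternating group of degree five, by its action on the five singular vectors.
-/

set_option autoImplicit false
set_option linter.style.haveILetI false

namespace Cfsg.Agent.Lib.CoFive

open Cfsg
open Matrix

/-- The form. -/
abbrev minusQ : ((Fin 1 ⊕ Fin 1) ⊕ Fin 2 → ZMod 2) → ZMod 2 := quadFormMinus 1 (ZMod 2) 1 1

/-- The singular vectors. -/
abbrev SingVec : Type := {v : (Fin 1 ⊕ Fin 1) ⊕ Fin 2 → ZMod 2 // v ≠ 0 ∧ minusQ v = 0}

theorem card_singVec : Fintype.card SingVec = 5 := by decide +kernel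

/-- The matrix of an isometry. -/
def isoMat (g : isometryGroup (ZMod 2) minusQ) :
    Matrix ((Fin 1 ⊕ Fin 1) ⊕ Fin 2) ((Fin 1 ⊕ Fin 1) ⊕ Fin 2) (ZMod 2) := g.1.1

theorem isoMat_mul (g h : isometryGroup (ZMod 2) minusQ) : isoMat (g * h) = isoMat g * isoMat h := rfl

theorem isoMat_one : isoMat 1 = 1 := rfl

/-- The image of a singular vector. -/
def singImg (g : isometryGroup (ZMod 2) minusQ) (v : SingVec) : SingVec :=
  ⟨isoMat g *ᵥ v.1, fun h => v.2.1 (by
    have := congrArg (fun w => isoMat g⁻¹ *ᵥ w) h
    simpa [Matrix.mulVec_mulVec, ← isoMat_mul, isoMat_one] using this), (g.2 v.1 v.1).trans v.2.2⟩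

theorem singImg_mul (g h : isometryGroup (ZMod 2) minusQ) (v : SingVec) :
    singImg (g * h) v = singImg g (singImg h v) :=
  Subtype.ext (by simp [singImg, isoMat_mul, Matrix.mulVec_mulVec])

theorem singImg_one (v : SingVec) : singImg 1 v = v := Subtype.ext (by simp [singImg, isoMat_one])

/-- The action on the singular vectors. -/
def singPerm : isometryGroup (ZMod 2) minusQ →* Equiv.Perm SingVec :=
  MonoidHom.mk' (fun g =>
    { toFun := singImg g
      invFun := singImg g⁻¹
      left_inv := fun v => by rw [← singImg_mul, inv_mul_cancel, singImg_one]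
      right_inv := fun v => by rw [← singImg_mul, mul_inv_cancel, singImg_one] })
    fun g h => Equiv.ext fun v => singImg_mul g h v

theorem singPerm_injective : Function.Injective singPerm := by
  rw [injective_iff_map_eq_one]
  intro g hg
  have h : ∀ v, v ≠ 0 → minusQ v = 0 → isoMat g *ᵥ v = v := fun v h1 h2 =>
    congrArg (fun σ : Equiv.Perm SingVec => (σ ⟨v, h1, h2⟩).1) hg
  set M := isoMat g
  have key : ∀ i, M *ᵥ (Pi.single i 1) = Pi.single i 1 := by
    intro i
    rcases i with i | i
    · exact h _ (by revert i; decide) (by revert i; decide)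
    · have hs : ∀ i : Fin 2,
          (Pi.single (.inr i) 1 : (Fin 1 ⊕ Fin 1) ⊕ Fin 2 → ZMod 2) =
            (Pi.single (.inl (.inl 0)) 1 + Pi.single (.inl (.inr 0)) 1 + Pi.single (.inr i) 1) +
              (Pi.single (.inl (.inl 0)) 1 + Pi.single (.inl (.inr 0)) 1) := by decide
      rw [hs i, Matrix.mulVec_add, h _ (by revert i; decide) (by revert i; decide), Matrix.mulVec_add,
        h _ (by decide) (by decide), h _ (by decide) (by decide)]
  refine Subtype.ext (Units.ext (Matrix.ext fun a b => ?_))
  have := congrFun (key b) a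
  rw [Matrix.mulVec_single_one] at this
  simpa [M, isoMat, Matrix.one_apply, Pi.single_apply] using this

/-- `Ω⁻(4, 2) ≅ A₅`. -/
theorem nonempty_omegaMinusFour :
    Nonempty (Omega (ZMod 2) minusQ ≃* alternatingGroup (Fin 5)) := by
  classical
  set e := Fintype.equivFinOfCardEq card_singVec
  set f : isometryGroup (ZMod 2) minusQ →* Equiv.Perm (Fin 5) := e.permCongrHom.toMonoidHom.comp singPerm
  have hf : Function.Injective f := e.permCongrHom.injective.comp singPerm_injective
  have hle : (Omega (ZMod 2) minusQ).map f ≤ alternatingGroup (Fin 5) := by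
    rw [Subgroup.map_le_iff_le_comap]
    show commutator (isometryGroup (ZMod 2) minusQ) ≤ _
    rw [commutator_def, Subgroup.commutator_le]
    intro a _ b _
    rw [Subgroup.mem_comap, Equiv.Perm.mem_alternatingGroup, map_commutatorElement, map_commutatorElement]
    exact commutatorElement_eq_one_iff_mul_comm.2 (mul_comm _ _)
  have h60 : 60 ≤ Nat.card ((Omega (ZMod 2) minusQ).map f) := by
    rw [Subgroup.card_map_of_injective hf, Subgroup.card_eq_card_quotient_mul_card_subgroup (Subgroup.center _),
      show Nat.card (_ ⧸ Subgroup.center _) = 60 from JankoTwoType.card_POmega_minus]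
    exact Nat.le_mul_of_pos_right _ Nat.card_pos
  have hA : Nat.card (alternatingGroup (Fin 5)) = 60 := by
    rw [nat_card_alternatingGroup, Nat.card_fin]; rfl
  have heq := Subgroup.eq_of_le_of_card_ge hle (hA ▸ h60)
  exact ⟨((Omega (ZMod 2) minusQ).equivMapOfInjective f hf).trans (MulEquiv.subgroupCongr heq)⟩

end Cfsg.Agent.Lib.CoFive
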