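import Cfsg.Agent.Lib.CoFive.Twin
import Cfsg.Agent.Lib.CoFive.OmegaFour
import Cfsg.Agent.Lib.Icosian.Simplicity
import Cfsg.Agent.Lib.JankoTwoModel.Centralizer
import Cfsg.Agent.Lib.LargeES.Heisenberg
import Cfsg.Agent.Lib.CharP.Fitting

/-!
The section of the automorphism group of the lattice at the element of order five, with the centraliser of an
involution in it.
-/

set_option autoImplicit false
set_option linter.style.haveILetI false

namespace Cfsg.Agent.Lib.CoFive

open Cfsg
open Cfsg.Agent.Lib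
open Cfsg.Agent.Lib.Compute

/-- The centraliser shape demanded of the section. -/
def SectShape (S : Type) [Group S] : Prop :=
  ∃ z : S, orderOf z = 2 ∧ ∃ (Q : Subgroup (Subgroup.centralizer ({z} : Set S))) (_ : Q.Normal),
    Cfsg.generalizedFittingSubgroup (Subgroup.centralizer ({z} : Set S)) = Q ∧ Cfsg.IsExtraspecial 2 Q ∧
    Nat.card Q = 2 ^ 5 ∧
    Nonempty ((Subgroup.centralizer ({z} : Set S)) ⧸ Q ≃* Cfsg.Omega (ZMod 2) (Cfsg.quadFormMinus 1 (ZMod 2) 1 1)) ∧
    ∃ g : S, (∃ hq : g * z * g⁻¹ ∈ Subgroup.centralizer ({z} : Set S),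
      (⟨g * z * g⁻¹, hq⟩ : Subgroup.centralizer ({z} : Set S)) ∈ Q) ∧ g * z * g⁻¹ ≠ z

theorem alternatingFive_card : Nat.card (alternatingGroup (Fin 5)) = 60 := by
  rw [nat_card_alternatingGroup, Nat.card_fin]; rfl

theorem sectShape_of_pre {G : Type} [Group G] [Finite G] (P : JankoTwoType.Pre G)
    (hc : Nat.card P.Cz = 1920) (hu0c : IsConj P.z P.u0) : SectShape G := by
  haveI : Fact (Nat.Prime 2) := ⟨Nat.prime_two⟩
  have hmC : ∀ {x : G}, x ∈ Subgroup.centralizer ({P.z} : Set G) ↔ Commute x P.z :=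
    Subgroup.mem_centralizer_singleton_iff
  have hCz : P.Cz = Subgroup.centralizer ({P.z} : Set G) := Subgroup.ext fun x => P.mem_Cz.trans hmC.symm
  set C := Subgroup.centralizer ({P.z} : Set G) with hC
  have hQC : P.Q ≤ C := fun x hx => hmC.2 (P.le x hx)
  set Q : Subgroup C := P.Q.subgroupOf C with hQ
  haveI hQn : Q.Normal := ⟨fun q hq c => P.norm c.1 (hmC.1 c.2) q.1 hq⟩
  let eC : ↥P.Cz ≃* ↥C := MulEquiv.subgroupCongr hCz
  set φ : ↥C →* Equiv.Perm (Fin 5) := P.perm.comp eC.symm.toMonoidHom with hφ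
  have hker : φ.ker = Q := by
    rw [hφ, ← MonoidHom.comap_ker, P.ker_perm]
    ext c
    exact Iff.rfl
  have hrange : φ.range = P.perm.range := by
    rw [hφ, MonoidHom.range_comp, MonoidHom.range_eq_top.2 eC.symm.surjective, ← MonoidHom.range_eq_map]
  have h60 : Nat.card φ.range = 60 := by
    have := P.card_Cz
    rw [hc, ← hrange] at this
    omega
  have hA : φ.range = alternatingGroup (Fin 5) := by
    refine Equiv.Perm.eq_alternatingGroup_of_index_eq_two ?_
    have := Subgroup.card_mul_index φ.range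
    rw [h60, Nat.card_perm, Nat.card_fin] at this
    norm_num [Nat.factorial] at this
    omega
  obtain ⟨w⟩ := nonempty_omegaMinusFour
  let e5 : ↥C ⧸ Q ≃* ↥(alternatingGroup (Fin 5)) :=
    ((QuotientGroup.quotientMulEquivOfEq hker.symm).trans (QuotientGroup.quotientKerEquivRange φ)).trans
      (MulEquiv.subgroupCongr hA)
  have hcQ : Nat.card Q = 32 := by
    rw [hQ, Nat.card_congr (Subgroup.subgroupOfEquivOfLe hQC).toEquiv, P.card]
  have hext : IsExtraspecial 2 Q := by
    set zQ : ↥Q := ⟨⟨P.z, hmC.2 (Commute.refl _)⟩, P.hzQ⟩ with hzQ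
    have hval : ∀ {a b : ↥Q}, (a.1.1 : G) = b.1.1 → a = b := fun h => Subtype.ext (Subtype.ext h)
    have hzc : zQ ∈ Subgroup.center ↥Q := Subgroup.mem_center_iff.2 fun x => hval (P.le x.1.1 x.2).eq
    have hall : ∀ x ∈ Subgroup.center ↥Q, x = 1 ∨ x = zQ := by
      intro x hx
      refine (P.center x.1.1 x.2 fun y hy => ?_).imp (fun h => hval h) (fun h => hval h)
      have h := Subgroup.mem_center_iff.1 hx ⟨⟨y, hQC hy⟩, hy⟩
      exact (congrArg (fun u : ↥Q => (u.1.1 : G)) h).symm
    have hsq : ∀ x : ↥Q, x ^ 2 ∈ Subgroup.center ↥Q := by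
      intro x
      rcases P.sq x.1.1 x.2 with h | h
      · rw [show x ^ 2 = 1 from hval (by rw [pow_two]; exact h)]; exact one_mem _
      · rw [show x ^ 2 = zQ from hval (by rw [pow_two]; exact h)]; exact hzc
    have hcomm : ∀ x y : ↥Q, x * y * x⁻¹ * y⁻¹ ∈ Subgroup.center ↥Q := by
      intro x y
      rcases P.comm x.1.1 x.2 y.1.1 y.2 with h | h
      · rw [show x * y * x⁻¹ * y⁻¹ = 1 from by
          rw [show x * y = y * x from hval h]; group]
        exact one_mem _
      · rw [show x * y * x⁻¹ * y⁻¹ = zQ from by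
          rw [show x * y = y * x * zQ from hval h]
          have hz : ∀ u : ↥Q, zQ * u = u * zQ := fun u => (Subgroup.mem_center_iff.1 hzc u).symm
          calc y * x * zQ * x⁻¹ * y⁻¹ = y * x * (zQ * (x⁻¹ * y⁻¹)) := by group
            _ = y * x * (x⁻¹ * y⁻¹ * zQ) := by rw [hz]
            _ = zQ := by group
          ]
        exact hzc
    obtain ⟨x, y, hxy⟩ : ∃ x y : ↥Q, x * y ≠ y * x := by
      by_contra hno
      push_neg at hno
      have hsub : ∀ x : ↥Q, x = 1 ∨ x = zQ := fun x =>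
        hall x (Subgroup.mem_center_iff.2 fun y => hno y x)
      have hle : Nat.card ↥Q ≤ Nat.card Bool :=
        Nat.card_le_card_of_surjective (fun b : Bool => bif b then zQ else 1) fun x =>
          (hsub x).elim (fun h => ⟨false, h.symm⟩) fun h => ⟨true, h.symm⟩
      rw [hcQ, Nat.card_eq_fintype_card, Fintype.card_bool] at hle
      omega
    refine LargeES.Heisenberg.isExtraspecial_of_props (IsPGroup.of_card (n := 5) hcQ) (fun h => ?_) hzc hall
      hsq hcomm hxy
    exact P.z_ne (congrArg (fun u : ↥Q => (u.1.1 : G)) h)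
  have hself : Subgroup.centralizer (Q : Set ↥C) ≤ Q := by
    intro c hc
    exact P.self c.1 (hmC.1 c.2) fun x hx =>
      (congrArg Subtype.val (Subgroup.mem_centralizer_iff.1 hc ⟨x, hQC hx⟩ hx)).symm
  have hQle : Q ≤ pCore 2 ↥C :=
    Cfsg.Agent.Lib.PSolvable.le_pCore (hN := hQn) (IsPGroup.of_card (n := 5) hcQ)
  have hcore : pCore 2 ↥C = Q := by
    refine le_antisymm ?_ hQle
    haveI : IsSimpleGroup (alternatingGroup (Fin 5)) := alternatingGroup.isSimpleGroup (by simp)
    haveI : IsSimpleGroup (↥C ⧸ Q) := MulEquiv.isSimpleGroup e5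
    have hP : IsPGroup 2 (pCore 2 ↥C) := PSolvable.pCore_isPGroup
    haveI : (pCore 2 ↥C).Normal := inferInstance
    rcases ((inferInstance : (pCore 2 ↥C).Normal).map (QuotientGroup.mk' Q)
      (QuotientGroup.mk'_surjective Q)).eq_bot_or_eq_top with h | h
    · intro x hx
      have := Subgroup.mem_map_of_mem (QuotientGroup.mk' Q) hx
      rwa [h, Subgroup.mem_bot, QuotientGroup.mk'_apply, QuotientGroup.eq_one_iff] at this
    · exfalso
      have h2 := hP.map (QuotientGroup.mk' Q)
      rw [h] at h2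
      obtain ⟨k, hk⟩ := IsPGroup.iff_card.1 h2
      rw [Subgroup.card_top, Nat.card_congr e5.toEquiv, alternatingFive_card] at hk
      have h3 : (3 : ℕ) ∣ 2 ^ k := ⟨20, by omega⟩
      exact absurd (Nat.prime_three.dvd_of_dvd_pow h3) (by norm_num)
  have hF : generalizedFittingSubgroup ↥C = Q := by
    rw [← hcore]
    refine CharP.generalizedFittingSubgroup_eq_pCore ?_
    rw [hcore]; exact hself
  obtain ⟨g, hg⟩ := isConj_iff.1 hu0c
  refine ⟨P.z, P.hz, Q, hQn, hF, hext, hcQ, ⟨e5.trans w.symm⟩, g, ⟨by rw [hg]; exact hQC P.hu0, ?_⟩, ?_⟩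
  · show g * P.z * g⁻¹ ∈ P.Q
    rw [hg]; exact P.hu0
  · rw [hg]; exact P.hu0z

/-- The section. -/
theorem exists_section : ∃ A : Subgroup ↥Co0, Nat.card A = 5 ∧
    ∃ (_ : ((A ⊔ Subgroup.center ↥Co0).subgroupOf (Subgroup.centralizer (A : Set ↥Co0))).Normal),
    ∃ (S : Type) (_ : Group S) (_ : Finite S),
      Nonempty (S ≃* ↥(Subgroup.centralizer (A : Set ↥Co0)) ⧸
        (A ⊔ Subgroup.center ↥Co0).subgroupOf (Subgroup.centralizer (A : Set ↥Co0))) ∧
      IsSimpleGroup S ∧ ¬ IsMulCommutative S ∧ SectShape S := by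
  haveI : Finite Co0 := Leech.finite_co0
  set A : Subgroup ↥Co0 := Subgroup.zpowers aCo with hA
  have hAC : Subgroup.centralizer (A : Set ↥Co0) = CA := by
    refine le_antisymm (Subgroup.centralizer_le fun x hx => ?_) fun x hx => ?_
    · obtain rfl : x = aCo := hx; exact Subgroup.mem_zpowers _
    · refine Subgroup.mem_centralizer_iff.2 fun y hy => ?_
      obtain ⟨k, rfl⟩ := Subgroup.mem_zpowers_iff.1 hy
      exact (Commute.zpow_left (Subgroup.mem_centralizer_singleton_iff.1 hx : Commute x aCo).symm k).eq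
  have h5 : orderOf aCo = 5 := by
    have h := orderOf_negA
    rw [← Subgroup.orderOf_coe] at h
    have hd : orderOf aCo ∣ 5 := orderOf_dvd_of_pow_eq_one aCo_pow_five
    rcases (Nat.dvd_prime (by norm_num)).1 hd with e | e
    · exfalso
      rw [orderOf_eq_one_iff] at e
      have h' : orderOf (Leech.negCo * aCo) = 10 := h
      rw [e, mul_one] at h'
      have h2 : orderOf Leech.negCo ∣ 2 := orderOf_dvd_of_pow_eq_one (Leech.co0_ext fun v => by
        rw [pow_two, mul_smul, Leech.negCo_smul, Leech.negCo_smul, one_smul, neg_neg])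
      rw [h'] at h2
      norm_num at h2
    · exact e
  obtain ⟨ψ, hr, hk⟩ := exists_lineMap
  have hsup : (A ⊔ Subgroup.center ↥Co0).subgroupOf CA = ψ.ker := by
    rw [hk]
    refine le_antisymm ?_ ?_
    · set M : Subgroup ↥Co0 := Subgroup.zpowers (Leech.negCo * aCo) with hM
      have hcomm : Commute Leech.negCo aCo :=
        (Subgroup.mem_center_iff.1 Leech.negCo_mem_center aCo).symm
      have hneg2 : Leech.negCo * Leech.negCo = 1 := Leech.co0_ext fun v => by
        rw [mul_smul, Leech.negCo_smul, Leech.negCo_smul, one_smul, neg_neg]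
      have ha : aCo ∈ M := by
        refine Subgroup.mem_zpowers_iff.2 ⟨((6 : ℕ) : ℤ), ?_⟩
        rw [zpow_natCast, hcomm.mul_pow, show Leech.negCo ^ 6 = 1 by
          rw [pow_mul Leech.negCo 2 3, pow_two, hneg2, one_pow], one_mul, pow_succ, aCo_pow_five, one_mul]
      have hn : Leech.negCo ∈ M := by
        refine Subgroup.mem_zpowers_iff.2 ⟨((5 : ℕ) : ℤ), ?_⟩
        rw [zpow_natCast, hcomm.mul_pow, aCo_pow_five, mul_one,
          show (5 : ℕ) = 2 * 2 + 1 from rfl, pow_succ, pow_mul, pow_two Leech.negCo, hneg2, one_pow, one_mul]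
      have hle : A ⊔ Subgroup.center ↥Co0 ≤ M := by
        refine sup_le ((Subgroup.zpowers_le).2 ha) fun z hz => ?_
        rcases Leech.center_cases hz with rfl | rfl
        exacts [one_mem _, hn]
      intro x hx
      obtain ⟨k, hk'⟩ := Subgroup.mem_zpowers_iff.1 (hle (Subgroup.mem_subgroupOf.1 hx))
      exact Subgroup.mem_zpowers_iff.2 ⟨k, Subtype.ext (by rw [SubgroupClass.coe_zpow]; exact hk')⟩
    · rw [Subgroup.zpowers_le, Subgroup.mem_subgroupOf]
      exact mul_mem (Subgroup.mem_sup_right Leech.negCo_mem_center)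
        (Subgroup.mem_sup_left (Subgroup.mem_zpowers aCo))
  refine ⟨A, by rw [hA, Nat.card_zpowers, h5], ?_⟩
  rw [hAC]
  haveI hn : ((A ⊔ Subgroup.center ↥Co0).subgroupOf CA).Normal := hsup ▸ ψ.normal_ker
  refine ⟨hn, ↥JankoTwoModel.J, inferInstance, inferInstance, ⟨?_⟩, ?_, ?_, ?_⟩
  · exact ((QuotientGroup.quotientMulEquivOfEq hsup).trans ((QuotientGroup.quotientKerEquivRange ψ).trans
      (MulEquiv.subgroupCongr hr))).symm
  · haveI := Icosian.isSimpleGroup_J2
    exact MulEquiv.isSimpleGroup JankoTwoModel.equivJ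
  · intro hcm
    obtain ⟨a, b, hab⟩ := Icosian.J2_exists_noncomm
    obtain ⟨a', rfl⟩ := JankoTwoModel.equivJ.surjective a
    obtain ⟨b', rfl⟩ := JankoTwoModel.equivJ.surjective b
    exact hab (by rw [← map_mul, ← map_mul, hcm.is_comm.comm a' b'])
  · exact sectShape_of_pre JankoTwoModel.preJ JankoTwoModel.card_centralizer JankoTwoModel.conj_u0

end Cfsg.Agent.Lib.CoFive
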