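import Cfsg.Agent.Lib.CoFive.Dot
import Cfsg.Agent.Lib.MonsterType.MatCo

/-!
Automorphisms of the lattice by the images of eight times the unit vectors.
-/

set_option autoImplicit false

namespace Cfsg.Agent.Lib.CoFive

open Cfsg
open Cfsg.Agent.Lib

/-- An entry of a table. -/
def ent (L : List (List ℤ)) (i j : Fin 24) : ℤ := (L.getD i []).getD j 0

/-- The matrix on points. -/
def toMat (L : List (List ℤ)) : GolayPt → GolayPt → ℤ := fun p q => ent L (Golay.idx p) (Golay.idx q)

/-- The tests making a table an automorphism. -/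
def MatOK (L : List (List ℤ)) : Prop :=
  MonsterType.matOk (toMat L) ∧ MonsterType.matOk (fun i k => toMat L k i) ∧
    (∀ j k, (∑ i, toMat L j i * toMat L k i) = if j = k then 64 else 0) ∧
    ∀ j k, (∑ i, toMat L i j * toMat L i k) = if j = k then 64 else 0

/-- The automorphism of a table. -/
def coOf (L : List (List ℤ)) (h : MatOK L) : Co0 :=
  MonsterType.matCo (toMat L) h.1 h.2.1 h.2.2.1 h.2.2.2

/-- The table gives the images of eight times the unit vectors under `g`. -/
def RowsOK (g : Co0) (L : List (List ℤ)) : Prop :=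
  ∀ i j, cd ((g • Leech.pt8 (Golay.pt i) : leechLattice) : GolayPt → ℤ) j = ent L i j

theorem cd_pt8 (i j : Fin 24) :
    cd ((Leech.pt8 (Golay.pt i) : leechLattice) : GolayPt → ℤ) j = if i = j then 8 else 0 := by
  show (Pi.single (Golay.pt i) (8 : ℤ) : GolayPt → ℤ) (Golay.pt j) = _
  by_cases h : i = j
  · subst h; rw [if_pos rfl, Pi.single_eq_same]
  · rw [if_neg h, Pi.single_eq_of_ne fun e => h (by rw [← Golay.idx_pt i, ← Golay.idx_pt j, e])]

/-- Linearity in coordinates. -/
theorem smul_cd (g : Co0) (v : leechLattice) (j : Fin 24) :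
    8 * cd ((g • v : leechLattice) : GolayPt → ℤ) j =
      ∑ i, cd (v : GolayPt → ℤ) i * cd ((g • Leech.pt8 (Golay.pt i) : leechLattice) : GolayPt → ℤ) j := by
  have e : (8 : ℤ) • (g • v) = ∑ p, (v : GolayPt → ℤ) p • (g • Leech.pt8 p) := by
    rw [← Leech.smul_zsmul', Leech.eight_zsmul_eq, Leech.smul_sum']
    exact Finset.sum_congr rfl fun p _ => Leech.smul_zsmul' ..
  have e' := congrArg (fun z : leechLattice => (z : GolayPt → ℤ) (Golay.pt j)) e
  simp only [AddSubgroup.coe_zsmul, Pi.smul_apply, smul_eq_mul, AddSubgroup.val_finsetSum,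
    Finset.sum_apply] at e'
  exact e'.trans (Equiv.sum_comp Golay.ptEquiv.symm fun p => (v : GolayPt → ℤ) p *
    ((g • Leech.pt8 p : leechLattice) : GolayPt → ℤ) (Golay.pt j)).symm

theorem RowsOK.apply {g : Co0} {L : List (List ℤ)} (h : RowsOK g L) (v : leechLattice) (j : Fin 24) :
    8 * cd ((g • v : leechLattice) : GolayPt → ℤ) j = ∑ i, cd (v : GolayPt → ℤ) i * ent L i j :=
  (smul_cd g v j).trans (Finset.sum_congr rfl fun i _ => by rw [h i j])

theorem rowsOK_coOf (L : List (List ℤ)) (h : MatOK L) : RowsOK (coOf L h) L := by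
  intro i j
  have e : ((coOf L h • Leech.pt8 (Golay.pt i) : leechLattice) : GolayPt → ℤ) =
      MonsterType.matMap (toMat L) (Leech.vec8 (Golay.pt i)) := rfl
  rw [cd, e, MonsterType.matMap, MonsterType.matNum,
    Finset.sum_eq_single (Golay.pt i) (fun p _ hp => by simp [Leech.vec8, hp]) (by simp)]
  rw [Leech.vec8, Pi.single_eq_same, toMat, Golay.idx_pt, Golay.idx_pt]
  omega

theorem co0_ext_rows {g h : Co0} {L : List (List ℤ)} (hg : RowsOK g L) (hh : RowsOK h L) : g = h := by
  refine Leech.co0_ext_pt8 fun p => Subtype.ext (funext fun q => ?_)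
  have := (hg (Golay.idx p) (Golay.idx q)).trans (hh (Golay.idx p) (Golay.idx q)).symm
  simpa [cd, Golay.pt_idx] using this

/-- The identity table. -/
def oneTab : List (List ℤ) := (List.range 24).map fun i => (List.range 24).map fun j => if i = j then 8 else 0

theorem rowsOK_one : RowsOK 1 oneTab := by
  intro i j
  rw [one_smul, cd_pt8]
  revert i j
  decide +kernel

/-- The table `M` is the product of `L`, then `N`. -/
noncomputable def prodTest (L N M : List (List ℤ)) (P : List ℤ) : Bool :=
  decide (P = List.ofFn fun i => pack (ent N i)) &&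
    decide (∀ i : Fin 24, comb (List.ofFn (ent L i)) P = 8 * pack (ent M i))

/-- All entries are at most eight. -/
def Small (L : List (List ℤ)) : Prop := ∀ i j, |ent L i j| ≤ 8

theorem rowsOK_mul {g h : Co0} {L N M : List (List ℤ)} {P : List ℤ} (hg : RowsOK g L) (hh : RowsOK h N)
    (hL : Small L) (hN : Small N) (hM : Small M) (ht : prodTest L N M P = true) : RowsOK (h * g) M := by
  simp only [prodTest, Bool.and_eq_true, decide_eq_true_eq] at ht
  intro i j
  have hrow := ht.2 i
  rw [ht.1, comb_ofFn] at hrow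
  have e1 : ∑ k, ent L i k * pack (ent N k) = pack fun j => ∑ k, ent L i k * ent N k j := by
    simp only [pack, Finset.mul_sum, Finset.sum_mul]
    rw [Finset.sum_comm]
    exact Finset.sum_congr rfl fun j _ => Finset.sum_congr rfl fun i _ => by ring
  rw [e1, ← pack_smul] at hrow
  have hb : ∀ j, |∑ k, ent L i k * ent N k j| ≤ 24 * 64 := fun j => by
    refine (Finset.abs_sum_le_sum_abs _ _).trans ((Finset.sum_le_card_nsmul _ _ 64 fun k _ => ?_).trans (by simp))
    rw [abs_mul]
    exact mul_le_mul (hL i k) (hN k j) (abs_nonneg _) (by norm_num)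
  have e2 := congrFun (pack_inj (fun j => by have := abs_le.1 (hb j); omega)
    (fun j => by have := abs_le.1 (hM i j); omega) hrow) j
  have e3 := hh.apply (g • Leech.pt8 (Golay.pt i)) j
  rw [← mul_smul] at e3
  rw [show (∑ k, cd ((g • Leech.pt8 (Golay.pt i) : leechLattice) : GolayPt → ℤ) k * ent N k j) =
    ∑ k, ent L i k * ent N k j from Finset.sum_congr rfl fun k _ => by rw [hg i k], e2] at e3
  omega

theorem dot_smul_self {g : Co0} {L : List (List ℤ)} (h : RowsOK g L) (v : leechLattice) :
    8 * dotInt ((g • v : leechLattice) : GolayPt → ℤ) (v : GolayPt → ℤ) =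
      ∑ i, ∑ j, cd (v : GolayPt → ℤ) i * cd (v : GolayPt → ℤ) j * ent L i j := by
  rw [← dot_cd, Finset.mul_sum, Finset.sum_comm]
  refine Finset.sum_congr rfl fun j _ => ?_
  rw [← mul_assoc, h.apply, Finset.sum_mul]
  exact Finset.sum_congr rfl fun i _ => by ring

end Cfsg.Agent.Lib.CoFive
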