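import Cfsg.Agent.Lib.CoFive.Lanes
import Cfsg.Agent.Lib.Leech.Shapes
import Cfsg.Agent.Lib.Golay.Code

/-!
Enumeration of the minimal vectors by moves, carrying the value of a quadratic form, its linear part and the
packed vector.
-/

set_option autoImplicit false

namespace Cfsg.Agent.Lib.CoFive

open Cfsg
open Cfsg.Agent.Lib
open Cfsg.Agent.Lib.Compute

/-- Coordinates along the numbering of the points. -/
def cd (x : GolayPt → ℤ) (k : Fin 24) : ℤ := x (Golay.pt k)

theorem cd_idx (x : GolayPt → ℤ) (p : GolayPt) : cd x (Golay.idx p) = x p := by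
  rw [cd, Golay.pt_idx]

theorem sum_cd (f : GolayPt → ℤ) : ∑ k, f (Golay.pt k) = ∑ p, f p :=
  Equiv.sum_comp Golay.ptEquiv.symm f

theorem dot_cd (x y : GolayPt → ℤ) : ∑ k, cd x k * cd y k = dotInt x y :=
  sum_cd fun p => x p * y p

theorem abs_cd_le {x : GolayPt → ℤ} (hx : x ∈ leechLattice) (h : sqNorm x = 32) (k : Fin 24) :
    |cd x k| ≤ 4 := by
  rcases Leech.shape32 hx h with ⟨i, j, -, e⟩ | ⟨c, -, -, e⟩ | ⟨j, e⟩ <;>
    rw [cd, e] <;> split <;> norm_num

/-- Weights spreading the lowest word of the packed numbers. -/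
def hashWt : List ℤ := [831604030533, 943783788697, 824390439797, 608377713237, 725423843899, 958263922935, 967426663849, 663760398697, 822803812165, 997363260067, 748524677149, 978246341957, 630488945495, 1037739056715, 692033903719, 557793436075, 734363906871, 733891403137, 894595753821, 768633695219, 748203830827, 767470463255, 974501200179, 572513938929]

/-- The weight of a position. -/
def wt (k : Fin 24) : ℤ := hashWt.getD k 0

/-- The packed number of a vector `f`, with the hash of `x` in the lowest word. -/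
def lift (f x : Fin 24 → ℤ) : ℤ := (pack f + off24) * 2 ^ 64 + (2 ^ 62 + ∑ i, x i * wt i)

/-- The data of a position: number, shift, shifted diagonal entry, packed row, packed unit vector. -/
structure Pos where
  k : ℕ
  sh : ℕ
  d : ℕ
  row : ℕ
  e : ℕ

/-- A state: shifted value, packed linear part, packed vector. -/
structure St where
  q : ℕ
  H : ℕ
  W : ℕ

/-- The bias of the rows. -/
def rowBias : ℕ := 0x10001000100010001000100010001000100010001000100010001000100010001000100010001000100010001000100000000000000000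

/-- Add `a` at a position. -/
noncomputable def up {α : Type} (p : Pos) (a Q H W : ℕ) (K : ℕ → ℕ → ℕ → α) : α :=
  forceNat (Nat.sub (Nat.add (Nat.add Q (Nat.mul a (Nat.land (Nat.shiftRight H p.sh) 65535)))
      (Nat.mul (Nat.mul a a) p.d)) (Nat.add (Nat.mul a 32768) (Nat.mul (Nat.mul a a) 64))) fun q =>
    forceNat (Nat.sub (Nat.add H (Nat.mul a p.row)) (Nat.mul a rowBias)) fun h =>
      forceNat (Nat.add W (Nat.mul a p.e)) fun w => K q h w

/-- Subtract `a` at a position. -/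
noncomputable def down {α : Type} (p : Pos) (a Q H W : ℕ) (K : ℕ → ℕ → ℕ → α) : α :=
  forceNat (Nat.sub (Nat.add (Nat.add Q (Nat.mul a 32768)) (Nat.mul (Nat.mul a a) p.d))
      (Nat.add (Nat.mul a (Nat.land (Nat.shiftRight H p.sh) 65535)) (Nat.mul (Nat.mul a a) 64))) fun q =>
    forceNat (Nat.sub (Nat.add H (Nat.mul a rowBias)) (Nat.mul a p.row)) fun h =>
      forceNat (Nat.sub W (Nat.mul a p.e)) fun w => K q h w

/-- The state of the zero vector. -/
def st0 : St :=
  ⟨2 ^ 40, 0x8000800080008000800080008000800080008000800080008000800080008000800080008000800080008000800080004000000000000000, 0x8000800080008000800080008000800080008000800080008000800080008000800080008000800080008000800080004000000000000000⟩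

/-- A state describes a vector for the matrix `N`. -/
def Good (N : Fin 24 → Fin 24 → ℤ) (x : Fin 24 → ℤ) (s : St) : Prop :=
  (s.q : ℤ) = 2 ^ 40 + ∑ i, ∑ j, x i * x j * N i j ∧
    (s.H : ℤ) = lift (fun j => ∑ i, x i * (N i j + N j i)) x ∧ (s.W : ℤ) = lift x x

/-- The table of positions fits the matrix. -/
def PosOK (N : Fin 24 → Fin 24 → ℤ) (T : List Pos) : Prop :=
  (∀ i j, |N i j| ≤ 8 ∧ |N i j + N j i| ≤ 16) ∧ ∀ k : Fin 24, ∃ p, T.getD k ⟨0, 0, 0, 0, 0⟩ = p ∧ p.k = k ∧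
    p.sh = 64 + 16 * k ∧ (p.d : ℤ) = N k k + 64 ∧
    (p.row : ℤ) = pack (fun j => N k j + N j k + 16) * 2 ^ 64 + wt k ∧
    (p.e : ℤ) = pack (Pi.single k (1 : ℤ)) * 2 ^ 64 + wt k

theorem rowBias_eq : (rowBias : ℤ) = pack (fun _ : Fin 24 => (16 : ℤ)) * 2 ^ 64 := by decide +kernel

theorem good_zero (N : Fin 24 → Fin 24 → ℤ) : Good N 0 st0 := by
  refine ⟨?_, ?_, ?_⟩ <;>
    simp only [st0, lift, pack, Pi.zero_apply, zero_mul, Finset.sum_const_zero, zero_add, add_zero]
  all_goals decide +kernel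

theorem abs_wt_le : ∀ k : Fin 24, 0 ≤ wt k ∧ wt k ≤ 2 ^ 40 := by decide +kernel

theorem hash_bound {x : Fin 24 → ℤ} (hx : ∀ i, |x i| ≤ 8) :
    |∑ i, x i * wt i| ≤ 24 * (8 * 2 ^ 40) := by
  refine (Finset.abs_sum_le_sum_abs _ _).trans
    ((Finset.sum_le_card_nsmul _ _ (8 * 2 ^ 40) fun i _ => ?_).trans (by simp))
  rw [abs_mul, abs_of_nonneg (abs_wt_le i).1]
  exact mul_le_mul (hx i) (abs_wt_le i).2 (abs_wt_le i).1 (by norm_num)

theorem lift_nonneg {f x : Fin 24 → ℤ} (hf : ∀ i, |f i| ≤ 32768) (hx : ∀ i, |x i| ≤ 8) : 0 ≤ lift f x := by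
  have h1 : 0 ≤ pack f + off24 := by
    rw [off24_eq, ← pack_add]
    exact Finset.sum_nonneg fun i _ => mul_nonneg (by have := abs_le.1 (hf i); simp only [Pi.add_apply]; omega) (by positivity)
  have h2 := abs_le.1 (hash_bound hx)
  have h3 : 0 ≤ (pack f + off24) * 2 ^ 64 := mul_nonneg h1 (by positivity)
  rw [lift]
  omega

/-- The upper part of a packed number. -/
theorem shiftRight_lift {f x : Fin 24 → ℤ} (hf : ∀ i, |f i| ≤ 32768) (hx : ∀ i, |x i| ≤ 8) {n : ℕ}
    (hn : (n : ℤ) = lift f x) : ((n >>> 64 : ℕ) : ℤ) = pack f + off24 := by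
  have h1 : 0 ≤ pack f + off24 := by
    rw [off24_eq, ← pack_add]
    exact Finset.sum_nonneg fun i _ => mul_nonneg (by have := abs_le.1 (hf i); simp only [Pi.add_apply]; omega) (by positivity)
  have h2 := abs_le.1 (hash_bound hx)
  rw [Nat.shiftRight_eq_div_pow, Int.natCast_div, hn, lift, Nat.cast_pow, Nat.cast_ofNat, add_comm,
    Int.add_mul_ediv_right _ _ (by norm_num), Int.ediv_eq_zero_of_lt (by omega) (by omega), zero_add]

theorem land_lane {f x : Fin 24 → ℤ} (hf : ∀ i, |f i| < 32768) (hx : ∀ i, |x i| ≤ 8) {n : ℕ}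
    (hn : (n : ℤ) = lift f x) (k : Fin 24) :
    (Nat.land (Nat.shiftRight n (64 + 16 * k)) 65535 : ℤ) = f k + 32768 := by
  have hs := shiftRight_lift (fun i => (hf i).le) hx hn
  have e : pack f + off24 = pack (fun i => ((f i + 32768).toNat : ℤ)) := by
    rw [off24_eq, ← pack_add]
    refine congrArg pack (funext fun i => ?_)
    have := abs_lt.1 (hf i)
    rw [Int.toNat_of_nonneg (by omega)]; rfl
  have hd := digit_pack (fun i => (f i + 32768).toNat) (fun i => by have := abs_lt.1 (hf i); omega) k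
    (n >>> 64) (by rw [hs, e])
  show ((n >>> (64 + 16 * (k : ℕ)) &&& (2 ^ 16 - 1) : ℕ) : ℤ) = _
  rw [Nat.and_two_pow_sub_one_eq_mod, Nat.shiftRight_add, Nat.shiftRight_eq_div_pow _ (16 * _), pow_mul,
    show (2 : ℕ) ^ 16 = 65536 by norm_num, hd, Int.toNat_of_nonneg (by have := abs_lt.1 (hf k); omega)]

theorem sub_cast {A B : ℕ} {z : ℤ} (h : (A : ℤ) - B = z) (hz : 0 ≤ z) : ((Nat.sub A B : ℕ) : ℤ) = z := by
  show ((A - B : ℕ) : ℤ) = z
  omega

theorem form_add (N : Fin 24 → Fin 24 → ℤ) (x : Fin 24 → ℤ) (k : Fin 24) (v : ℤ) :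
    ∑ i, ∑ j, (x + Pi.single k v : Fin 24 → ℤ) i * (x + Pi.single k v : Fin 24 → ℤ) j * N i j =
      (∑ i, ∑ j, x i * x j * N i j) + v * (∑ i, x i * (N i k + N k i)) + v * v * N k k := by
  simp only [Pi.add_apply, add_mul, mul_add, Finset.sum_add_distrib]
  have e1 : ∀ i, ∑ j, x i * (Pi.single k v : Fin 24 → ℤ) j * N i j = v * (x i * N i k) := fun i => by
    rw [Finset.sum_eq_single k (fun j _ hj => by simp [hj]) (by simp), Pi.single_eq_same]; ring
  have e2 : ∑ i, ∑ j, (Pi.single k v : Fin 24 → ℤ) i * x j * N i j = ∑ j, v * (x j * N k j) := by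
    rw [Finset.sum_eq_single k (fun j _ hj => by simp [hj]) (by simp), Pi.single_eq_same]
    exact Finset.sum_congr rfl fun j _ => by ring
  have e3 : ∑ i, ∑ j, (Pi.single k v : Fin 24 → ℤ) i * (Pi.single k v : Fin 24 → ℤ) j * N i j =
      v * v * N k k := by
    rw [Finset.sum_eq_single k (fun j _ hj => by simp [hj]) (by simp),
      Finset.sum_eq_single k (fun j _ hj => by simp [hj]) (by simp), Pi.single_eq_same]
  simp only [e1, e2, e3, Finset.mul_sum]
  ring

theorem sum_single_mul (k : Fin 24) (v : ℤ) (g : Fin 24 → ℤ) :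
    ∑ i, (Pi.single k v : Fin 24 → ℤ) i * g i = v * g k := by
  rw [Finset.sum_eq_single k (fun i _ hi => by simp [hi]) (by simp), Pi.single_eq_same]

theorem lift_add (f g x y : Fin 24 → ℤ) :
    lift (f + g) (x + y) = lift f x + (pack g * 2 ^ 64 + ∑ i, y i * wt i) := by
  simp only [lift, pack_add, Pi.add_apply, add_mul, Finset.sum_add_distrib]
  ring

theorem good_step {N : Fin 24 → Fin 24 → ℤ} {T : List Pos} (hT : PosOK N T) {x : Fin 24 → ℤ} {s : St}
    (h : Good N x s) (hx : ∀ i, |x i| ≤ 4) (k : Fin 24) {a : ℕ} (ha : a ≤ 4) :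
    (∃ s', (∀ {α : Type} (K : ℕ → ℕ → ℕ → α),
        up (T.getD k ⟨0, 0, 0, 0, 0⟩) a s.q s.H s.W K = K s'.q s'.H s'.W) ∧
      Good N (x + Pi.single k (a : ℤ)) s') ∧
    (∃ s', (∀ {α : Type} (K : ℕ → ℕ → ℕ → α),
        down (T.getD k ⟨0, 0, 0, 0, 0⟩) a s.q s.H s.W K = K s'.q s'.H s'.W) ∧
      Good N (x + Pi.single k (-(a : ℤ))) s') := by
  obtain ⟨p, hp, -, hsh, hd, hrow, he⟩ := hT.2 k
  obtain ⟨hq, hH, hW⟩ := h
  set f : Fin 24 → ℤ := fun j => ∑ i, x i * (N i j + N j i) with hfdef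
  have hx8 : ∀ i, |x i| ≤ 8 := fun i => (hx i).trans (by norm_num)
  have hbnd : ∀ (y : Fin 24 → ℤ), (∀ i, |y i| ≤ 8) → ∀ j, |∑ i, y i * (N i j + N j i)| ≤ 24 * 128 := by
    intro y hy j
    refine (Finset.abs_sum_le_sum_abs _ _).trans ((Finset.sum_le_card_nsmul _ _ 128 fun i _ => ?_).trans
      (by simp))
    rw [abs_mul]
    exact mul_le_mul (hy i) (hT.1 i j).2 (abs_nonneg _) (by norm_num)
  have hlane : ((Nat.land (Nat.shiftRight s.H p.sh) 65535 : ℕ) : ℤ) = f k + 32768 := by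
    rw [hsh]
    exact land_lane (fun i => lt_of_le_of_lt (hbnd x hx8 i) (by norm_num)) hx8 hH k
  have key : ∀ v : ℤ, |v| ≤ 4 →
      ((s.q : ℤ) + v * f k + v * v * N k k = 2 ^ 40 + ∑ i, ∑ j, (x + Pi.single k v : Fin 24 → ℤ) i *
        (x + Pi.single k v : Fin 24 → ℤ) j * N i j ∧ 0 ≤ (s.q : ℤ) + v * f k + v * v * N k k) ∧
      ((s.H : ℤ) + v * ((p.row : ℤ) - rowBias) =
        lift (fun j => ∑ i, (x + Pi.single k v : Fin 24 → ℤ) i * (N i j + N j i)) (x + Pi.single k v) ∧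
        0 ≤ (s.H : ℤ) + v * ((p.row : ℤ) - rowBias)) ∧
      ((s.W : ℤ) + v * p.e = lift (x + Pi.single k v) (x + Pi.single k v) ∧ 0 ≤ (s.W : ℤ) + v * p.e) := by
    intro v hv
    have hy : ∀ i, |(x + Pi.single k v : Fin 24 → ℤ) i| ≤ 8 := fun i => by
      rw [Pi.add_apply]
      refine (abs_add_le _ _).trans ?_
      have := hx i
      by_cases hik : i = k
      · subst hik; rw [Pi.single_eq_same]; omega
      · rw [Pi.single_eq_of_ne hik, abs_zero]; omega
    have e1 : (s.q : ℤ) + v * f k + v * v * N k k = 2 ^ 40 + ∑ i, ∑ j, (x + Pi.single k v : Fin 24 → ℤ) i *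
        (x + Pi.single k v : Fin 24 → ℤ) j * N i j := by
      rw [hq, form_add]; simp only [hfdef]; ring
    have e2 : (s.H : ℤ) + v * ((p.row : ℤ) - rowBias) =
        lift (fun j => ∑ i, (x + Pi.single k v : Fin 24 → ℤ) i * (N i j + N j i)) (x + Pi.single k v) := by
      have : (fun j => ∑ i, (x + Pi.single k v : Fin 24 → ℤ) i * (N i j + N j i)) =
          f + fun j => v * (N k j + N j k) := funext fun j => by
        simp only [Pi.add_apply, add_mul, Finset.sum_add_distrib, sum_single_mul, hfdef]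
      rw [this, lift_add, sum_single_mul, pack_smul, hH, hrow, rowBias_eq]
      have e : pack (fun j => N k j + N j k + 16) =
          pack (fun j => N k j + N j k) + pack (fun _ : Fin 24 => (16 : ℤ)) := by rw [← pack_add]; rfl
      rw [e]; ring
    have e3 : (s.W : ℤ) + v * p.e = lift (x + Pi.single k v) (x + Pi.single k v) := by
      rw [lift_add, sum_single_mul, hW, he, pack_single, pack_single]; ring
    refine ⟨⟨e1, e1 ▸ ?_⟩, ⟨e2, e2 ▸ lift_nonneg (fun j => (hbnd _ hy j).trans (by norm_num)) hy⟩,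
      ⟨e3, e3 ▸ lift_nonneg (fun j => (hy j).trans (by norm_num)) hy⟩⟩
    have hb : |∑ i, ∑ j, (x + Pi.single k v : Fin 24 → ℤ) i * (x + Pi.single k v : Fin 24 → ℤ) j * N i j| ≤
        24 * (24 * 512) := by
      refine (Finset.abs_sum_le_sum_abs _ _).trans ((Finset.sum_le_card_nsmul _ _ (24 * 512) fun i _ => ?_).trans
        (by simp))
      refine (Finset.abs_sum_le_sum_abs _ _).trans ((Finset.sum_le_card_nsmul _ _ 512 fun j _ => ?_).trans
        (by simp))
      rw [abs_mul, abs_mul]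
      exact mul_le_mul (mul_le_mul (hy i) (hy j) (abs_nonneg _) (by norm_num)) (hT.1 i j).1 (abs_nonneg _)
        (by norm_num)
    have := abs_le.1 hb
    omega
  have ha4 : |(a : ℤ)| ≤ 4 := by rw [Nat.abs_cast]; exact_mod_cast ha
  obtain ⟨⟨q1, q2⟩, ⟨H1, H2⟩, W1, W2⟩ := key a ha4
  obtain ⟨⟨q1', q2'⟩, ⟨H1', H2'⟩, W1', W2'⟩ := key (-(a : ℤ)) (by rwa [abs_neg])
  refine ⟨⟨⟨Nat.sub (Nat.add (Nat.add s.q (Nat.mul a (Nat.land (Nat.shiftRight s.H p.sh) 65535)))
      (Nat.mul (Nat.mul a a) p.d)) (Nat.add (Nat.mul a 32768) (Nat.mul (Nat.mul a a) 64)),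
      Nat.sub (Nat.add s.H (Nat.mul a p.row)) (Nat.mul a rowBias), Nat.add s.W (Nat.mul a p.e)⟩,
      fun K => by rw [up, forceNat_eq, forceNat_eq, forceNat_eq, hp], ⟨?_, ?_, ?_⟩⟩,
    ⟨⟨Nat.sub (Nat.add (Nat.add s.q (Nat.mul a 32768)) (Nat.mul (Nat.mul a a) p.d))
      (Nat.add (Nat.mul a (Nat.land (Nat.shiftRight s.H p.sh) 65535)) (Nat.mul (Nat.mul a a) 64)),
      Nat.sub (Nat.add s.H (Nat.mul a rowBias)) (Nat.mul a p.row), Nat.sub s.W (Nat.mul a p.e)⟩,
      fun K => by rw [down, forceNat_eq, forceNat_eq, forceNat_eq, hp], ⟨?_, ?_, ?_⟩⟩⟩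
  · refine (sub_cast ?_ q2).trans q1
    simp only [Nat.add_eq, Nat.mul_eq, Nat.cast_add, Nat.cast_mul, Nat.cast_ofNat, hlane, hd]; ring
  · refine (sub_cast ?_ H2).trans H1
    simp only [Nat.add_eq, Nat.mul_eq, Nat.cast_add, Nat.cast_mul]; ring
  · refine Eq.trans ?_ W1
    simp only [Nat.add_eq, Nat.mul_eq, Nat.cast_add, Nat.cast_mul]
  · refine (sub_cast ?_ q2').trans q1'
    simp only [Nat.add_eq, Nat.mul_eq, Nat.cast_add, Nat.cast_mul, Nat.cast_ofNat, hlane, hd]; ring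
  · refine (sub_cast ?_ H2').trans H1'
    simp only [Nat.add_eq, Nat.mul_eq, Nat.cast_add, Nat.cast_mul]; ring
  · refine (sub_cast ?_ W2').trans W1'
    simp only [Nat.mul_eq, Nat.cast_mul]; ring

end Cfsg.Agent.Lib.CoFive
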