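import Cfsg.Agent.Lib.CoFive.Enum
import Cfsg.Agent.Lib.CoFive.Mat

/-!
The census of one class of minimal vectors and the search for the images of a spanning configuration.
-/

set_option autoImplicit false

namespace Cfsg.Agent.Lib.CoFive

open Cfsg
open Cfsg.Agent.Lib
open Cfsg.Agent.Lib.Compute

/-- A level of the search: the candidates, with translates, and the targets. -/
structure Lv where
  C : List (List Vc)
  tg : List (List ℕ)

/-- Dot products with the translates of one vector. -/
noncomputable def sigTest (D : ℕ) : List Vc → List ℕ → Bool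
  | [], [] => true
  | u :: us, t :: ts => dotTest D u t && sigTest D us ts
  | _, _ => false

/-- Dot products with the translates of several vectors. -/
noncomputable def prevTest (D : ℕ) : List (List Vc) → List (List ℕ) → Bool
  | [], [] => true
  | o :: os, t :: ts => sigTest D o t && prevTest D os ts
  | _, _ => false

/-- The empty record. -/
def vc0 : Vc := ⟨[], 0, 0, 0⟩

/-- A candidate with the required dot products against the first orbit is listed. -/
noncomputable def candTest (first : List Vc) (D : ℕ) (l : Lv) : Bool :=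
  !(sigTest D first (l.tg.headD [])) || l.C.any fun c => Nat.beq D (c.headD vc0).n

/-- The packed vector of `32760`. -/
def shiftNum : ℕ := 0x7ff87ff87ff87ff87ff87ff87ff87ff87ff87ff87ff87ff87ff87ff87ff87ff87ff87ff87ff87ff87ff87ff87ff87ff8

theorem shiftNum_eq : (shiftNum : ℤ) = pack fun _ : Fin 24 => (32760 : ℤ) := by decide +kernel

/-- The value of the form defining the class. -/
def classVal : ℕ := 2 ^ 40 - 128

/-- One for a vector of the class, a large number if it is a candidate that is not listed. -/
noncomputable def leafVal (first : List Vc) (ls : List Lv) (Q W : ℕ) : ℕ :=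
  bif Nat.beq Q classVal then
    forceNat (Nat.sub (Nat.shiftRight W 64) shiftNum) fun D => bif ls.all (candTest first D) then 1 else 100000
  else 0

/-- The vectors of squared length 32 with the prescribed dot product with their image under `g`. -/
def classSet (g : Co0) : Set leechLattice :=
  {v | sqNorm (v : GolayPt → ℤ) = 32 ∧ dotInt ((g • v : leechLattice) : GolayPt → ℤ) (v : GolayPt → ℤ) = -16}

theorem census {g : Co0} {L : List (List ℤ)} {T : List Pos} {first : List Vc} {ls : List Lv} {n : ℕ}
    {f : ℕ → ℕ → ℕ} (hf : f = leafVal first ls)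
    (hg : RowsOK g L) (hT : PosOK (ent L) T) (hn : n < 100000)
    (hsum : pairPart Nat.add 0 f ((List.range 24).map (posAt T)) +
      ((List.range 8).map (octChunk Nat.add 0 f T)).sum +
      ((List.range 8).map (oddChunk Nat.add 0 f T)).sum = n) :
    (classSet g).Finite ∧ (classSet g).ncard ≤ n ∧
      ∀ v ∈ classSet g, ∀ l ∈ ls, ∃ D : ℕ, (D : ℤ) = pack (fun i => cd (v : GolayPt → ℤ) i + 8) ∧
        candTest first D l = true := by
  classical
  subst hf
  rw [← leaves_sum] at hsum
  have hle : ∀ s ∈ leaves T, leafVal first ls s.1 s.2 ≤ n := fun s hs =>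
    hsum ▸ List.le_sum_of_mem (List.mem_map_of_mem hs)
  set F := (leaves T).filter fun s => Nat.beq s.1 classVal with hF
  have hlen : F.length ≤ n := by
    rw [hF, ← hsum]
    generalize leaves T = l
    induction l with
    | nil => simp
    | cons a l ih =>
      rw [List.map_cons, List.sum_cons, List.filter_cons]
      cases hb : Nat.beq a.1 classVal with
      | false => rw [if_neg Bool.false_ne_true]; omega
      | true =>
        rw [if_pos rfl, List.length_cons]
        have : 1 ≤ leafVal first ls a.1 a.2 := by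
          simp only [leafVal, hb, cond_true, forceNat_eq]
          cases ls.all (candTest first (Nat.sub (Nat.shiftRight a.2 64) shiftNum)) <;> simp
        omega
  have hst : ∀ v ∈ classSet g, ∃ s : St, (s.q, s.W) ∈ F ∧ Good (ent L) (cd (v : GolayPt → ℤ)) s := by
    rintro v ⟨h32, hdot⟩
    obtain ⟨s, hs, hgood⟩ := exists_leaf hT v.2 h32
    refine ⟨s, List.mem_filter.2 ⟨hs, ?_⟩, hgood⟩
    have e := dot_smul_self hg v
    rw [hdot] at e
    have h1 := hgood.1
    rw [← e] at h1
    rw [Nat.beq_eq]
    simp only [classVal]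
    omega
  haveI : Nonempty St := ⟨st0⟩
  choose! st hst1 hst2 using hst
  have hbd : ∀ v ∈ classSet g, ∀ i, |cd (v : GolayPt → ℤ) i| ≤ 4 := fun v hv => abs_cd_le v.2 hv.1
  have hD : ∀ v ∈ classSet g, ((Nat.sub (Nat.shiftRight (st v).W 64) shiftNum : ℕ) : ℤ) =
      pack fun i => cd (v : GolayPt → ℤ) i + 8 := by
    intro v hv
    have hs := shiftRight_lift (fun i => (hbd v hv i).trans (by norm_num))
      (fun i => (hbd v hv i).trans (by norm_num)) (hst2 v hv).2.2
    refine sub_cast ?_ (Finset.sum_nonneg fun i _ => mul_nonneg ?_ (by positivity))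
    · rw [Nat.shiftRight_eq, hs, shiftNum_eq, off24_eq]
      simp only [pack, ← Finset.sum_add_distrib, ← Finset.sum_sub_distrib]
      exact Finset.sum_congr rfl fun i _ => by ring
    · have := abs_le.1 (hbd v hv i); simp only; omega
  have hinj : Set.InjOn (fun v => ((st v).q, (st v).W)) (classSet g) := by
    intro v hv w hw e
    have e1 := hD v hv
    rw [show (st v).W = (st w).W from congrArg Prod.snd e] at e1
    have := eq_of_num_eq (fun i => (hbd v hv i).trans (by norm_num)) (fun i => (hbd w hw i).trans (by norm_num))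
      e1 (hD w hw)
    exact Subtype.ext (funext fun p => by simpa [cd, Golay.pt_idx] using congrFun this (Golay.idx p))
  have hmaps : Set.MapsTo (fun v => ((st v).q, (st v).W)) (classSet g) F.toFinset := fun v hv => by
    rw [Finset.mem_coe, List.mem_toFinset]; exact hst1 v hv
  refine ⟨Set.Finite.of_injOn hmaps hinj F.toFinset.finite_toSet,
    ((Set.ncard_le_ncard_of_injOn _ hmaps hinj F.toFinset.finite_toSet).trans
      (by rw [Set.ncard_coe_finset]; exact List.toFinset_card_le F)).trans hlen, fun v hv l hl => ?_⟩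
  refine ⟨Nat.sub (Nat.shiftRight (st v).W 64) shiftNum, hD v hv, ?_⟩
  obtain ⟨hm, hq⟩ := List.mem_filter.1 (hst1 v hv)
  have h := hle _ hm
  simp only [leafVal] at h
  rw [hq, cond_true, forceNat_eq] at h
  cases hall : ls.all (candTest first (Nat.sub (Nat.shiftRight (st v).W 64) shiftNum)) with
  | true => exact List.all_eq_true.1 hall l hl
  | false => rw [hall, cond_false] at h; omega

/-! ### The search -/

/-- Extend every partial image by the candidates that fit. -/
noncomputable def extend (tps : List (List (List Vc))) (l : Lv) : List (List (List Vc)) :=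
  tps.flatMap fun tp => (l.C.filter fun c => prevTest (c.headD vc0).n tp l.tg).map fun c => tp ++ [c]

/-- The translates in an orbit record are right. -/
noncomputable def orbTest (Ps : List (List ℤ)) (o : List Vc) : Bool :=
  Nat.beq o.length 4 && Nat.beq (o.headD vc0).v.length 24 && o.all vcChk &&
    (List.range 4).all fun i => imgTest (Ps.getD i []) (o.headD vc0) (o.getD i vc0)

/-- Each level fits the base. -/
noncomputable def levelsTest (Ps : List (List ℤ)) (first : List Vc) :
    List Lv → List (List Vc) → List (List Vc) → Bool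
  | [], [], _ => true
  | l :: ls, b :: bs, prev => prevTest (b.headD vc0).n prev l.tg && l.C.all (orbTest Ps) &&
      levelsTest Ps first ls bs (prev ++ [b])
  | _, _, _ => false

/-- The record `o` is the translates of `v`. -/
def OrbitOf (A : ℕ → Co0) (o : List Vc) (v : leechLattice) : Prop :=
  o.length = 4 ∧ ∀ i < 4, vcChk (o.getD i vc0) = true ∧
    vf (o.getD i vc0).v = cd ((A i • v : leechLattice) : GolayPt → ℤ)

theorem vc_smul_bound {u : Vc} (h : vcChk u = true) : ∀ i, |vf u.v i| ≤ 5 := (vcChk_iff h).1

theorem headD_eq_getD {o : List Vc} : o.headD vc0 = o.getD 0 vc0 := by cases o <;> rfl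

theorem orbTest_sound {A : ℕ → Co0} {tabs : ℕ → List (List ℤ)} {Ps : List (List ℤ)}
    (hA : ∀ i < 4, RowsOK (A i) (tabs i) ∧ Small (tabs i) ∧ Ps.getD i [] = List.ofFn fun k => pack (ent (tabs i) k))
    {o : List Vc} (h : orbTest Ps o = true) {v : leechLattice} (hv : vf (o.headD vc0).v = cd (v : GolayPt → ℤ)) :
    OrbitOf A o v := by
  simp only [orbTest, Bool.and_eq_true, List.all_eq_true, List.mem_range] at h
  obtain ⟨⟨⟨hlen, hl⟩, hall⟩, himg⟩ := h
  have hlen := Nat.eq_of_beq_eq_true hlen
  have hm : ∀ i < 4, vcChk (o.getD i vc0) = true := fun i hi => by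
    rw [List.getD_eq_getElem _ _ (by omega)]; exact hall _ (List.getElem_mem _)
  refine ⟨hlen, fun i hi => ⟨hm i hi, funext fun j => ?_⟩⟩
  have h0 : vcChk (o.headD vc0) = true := by rw [headD_eq_getD]; exact hm 0 (by norm_num)
  have e := imgTest_sound (hA i hi).2.1 (hA i hi).2.2 h0 (hm i hi) (Nat.eq_of_beq_eq_true hl) (himg i hi) j
  rw [hv, ← (hA i hi).1.apply v j] at e
  omega

theorem sigTest_congr {D D' : ℕ} : ∀ {o o' : List Vc}, o.length = o'.length →
    (∀ i < o.length, ∀ t : ℕ, dotTest D (o.getD i vc0) t = dotTest D' (o'.getD i vc0) t) →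
    ∀ ts, sigTest D o ts = sigTest D' o' ts := by
  intro o
  induction o with
  | nil =>
    intro o' hl _ ts
    obtain rfl := List.length_eq_zero_iff.1 hl.symm
    cases ts <;> rfl
  | cons u us ih =>
    intro o' hl h ts
    cases o' with
    | nil => simp at hl
    | cons u' us' =>
      cases ts with
      | nil => rfl
      | cons t ts =>
        simp only [sigTest]
        rw [show dotTest D u t = dotTest D' u' t from h 0 (by simp) t,
          ih (by simpa using hl) (fun i hi t => h (i + 1) (by simpa using hi) t) ts]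

/-- Equal tests for a pair of vectors and their images. -/
theorem sigTest_image {A : ℕ → Co0} {g : Co0} (hcomm : ∀ i, Commute g (A i)) {x v : leechLattice}
    {ox ox' o o' : List Vc} (hox : OrbitOf A ox x) (hox' : OrbitOf A ox' (g • x)) (hA0 : A 0 = 1)
    (ho : OrbitOf A o v) (ho' : OrbitOf A o' (g • v)) (ts : List ℕ) :
    sigTest (ox'.headD vc0).n o' ts = sigTest (ox.headD vc0).n o ts := by
  refine sigTest_congr (ho'.1.trans ho.1.symm) (fun i hi t => ?_) ts
  rw [ho'.1] at hi
  have hnum : ∀ (z : leechLattice) (oz : List Vc), OrbitOf A oz z →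
      (∀ j, |cd (z : GolayPt → ℤ) j| ≤ 5) ∧
        ((oz.headD vc0).n : ℤ) = pack fun j => cd (z : GolayPt → ℤ) j + 8 := by
    intro z oz hz
    obtain ⟨hc, he⟩ := hz.2 0 (by norm_num)
    rw [hA0, one_smul] at he
    obtain ⟨hb, hn, -, -⟩ := vcChk_iff hc
    rw [headD_eq_getD]
    refine ⟨fun j => ?_, ?_⟩
    · rw [← he]; exact hb j
    · rw [hn, he]
  obtain ⟨hb, hn⟩ := hnum x ox hox
  obtain ⟨hb', hn'⟩ := hnum _ ox' hox'
  obtain ⟨hc, he⟩ := ho.2 i hi
  obtain ⟨hc', he'⟩ := ho'.2 i hi
  rw [Bool.eq_iff_iff, dotTest_iff hb' hn' hc', dotTest_iff hb hn hc, he, he', dot_cd, dot_cd, ← mul_smul,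
    ← (hcomm i).eq, mul_smul, Leech.dotInt_smul]

theorem prevTest_image {A : ℕ → Co0} {g : Co0} (hcomm : ∀ i, Commute g (A i)) (hA0 : A 0 = 1)
    {x : leechLattice} {ox ox' : List Vc} (hox : OrbitOf A ox x) (hox' : OrbitOf A ox' (g • x)) :
    ∀ {prev tp : List (List Vc)}, List.Forall₂ (fun o o' => ∃ v, OrbitOf A o v ∧ OrbitOf A o' (g • v)) prev tp →
    ∀ tss, prevTest (ox'.headD vc0).n tp tss = prevTest (ox.headD vc0).n prev tss := by
  intro prev tp h
  induction h with
  | nil => intro tss; cases tss <;> rfl
  | @cons o o' prev tp hh _ ih =>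
    intro tss
    cases tss with
    | nil => rfl
    | cons ts tss =>
      obtain ⟨v, ho, ho'⟩ := hh
      simp only [prevTest]
      rw [sigTest_image hcomm hox hox' hA0 ho ho' ts, ih]

/-- The image of the base under a centralising element fixing its first vector is found. -/
theorem search {A : ℕ → Co0} {a : Co0} {tabs : ℕ → List (List ℤ)} {Ps : List (List ℤ)}
    (hA : ∀ i < 4, RowsOK (A i) (tabs i) ∧ Small (tabs i) ∧ Ps.getD i [] = List.ofFn fun k => pack (ent (tabs i) k))
    (hA0 : A 0 = 1) {g : Co0} (hcomm : ∀ i, Commute g (A i)) (hga : Commute g a) {first : List Vc}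
    {ls₀ : List Lv}
    (hcand : ∀ v ∈ classSet a, ∀ l ∈ ls₀, ∃ D : ℕ, (D : ℤ) = pack (fun i => cd (v : GolayPt → ℤ) i + 8) ∧
      candTest first D l = true) :
    ∀ (ls : List Lv) (bs prev tp : List (List Vc)) (tps : List (List (List Vc))),
      (∀ l ∈ ls, l ∈ ls₀) → levelsTest Ps first ls bs prev = true →
      (∀ b ∈ bs, ∃ v ∈ classSet a, OrbitOf A b v) →
      List.Forall₂ (fun o o' => ∃ v, OrbitOf A o v ∧ OrbitOf A o' (g • v)) prev tp →
      tp.head? = some first → tp ∈ tps →
      ∃ tp' ∈ ls.foldl extend tps,
        List.Forall₂ (fun o o' => ∃ v, OrbitOf A o v ∧ OrbitOf A o' (g • v)) (prev ++ bs) tp' := by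
  intro ls
  induction ls with
  | nil =>
    intro bs prev tp tps _ ht _ hP _ hm
    cases bs with
    | nil => exact ⟨tp, hm, by rwa [List.append_nil]⟩
    | cons b bs => simp [levelsTest] at ht
  | cons l ls ih =>
    intro bs prev tp tps hsub ht hbs hP hfirst hm
    cases bs with
    | nil => simp [levelsTest] at ht
    | cons b bs =>
      simp only [levelsTest, Bool.and_eq_true] at ht
      obtain ⟨⟨hprev, hC⟩, hrest⟩ := ht
      obtain ⟨v, hv, hob⟩ := hbs b (List.mem_cons_self ..)
      have hgv : g • v ∈ classSet a := by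
        refine ⟨by rw [Leech.sqNorm_smul]; exact hv.1, ?_⟩
        rw [← mul_smul, ← hga.eq, mul_smul, Leech.dotInt_smul]; exact hv.2
      obtain ⟨D, hD, hc⟩ := hcand _ hgv l (hsub l (List.mem_cons_self ..))
      have hb5 : ∀ i, |cd ((g • v : leechLattice) : GolayPt → ℤ) i| ≤ 5 :=
        fun i => (abs_cd_le (g • v).2 hgv.1 i).trans (by norm_num)
      -- the first entry of the test
      have hsig : sigTest D first (l.tg.headD []) = true := by
        cases hP with
        | nil => simp at hfirst
        | @cons o o' prev tp hh _ =>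
          obtain rfl : o' = first := by simpa using hfirst
          obtain ⟨w, ho, ho'⟩ := hh
          cases htg : l.tg with
          | nil => simp [htg, prevTest] at hprev
          | cons ts tss =>
            rw [htg] at hprev
            simp only [prevTest, Bool.and_eq_true] at hprev
            rw [List.headD_cons, ← hprev.1]
            refine sigTest_congr (ho'.1.trans ho.1.symm) (fun i hi t => ?_) ts
            rw [ho'.1] at hi
            obtain ⟨hc1, he1⟩ := ho.2 i hi
            obtain ⟨hc2, he2⟩ := ho'.2 i hi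
            obtain ⟨hcb, heb⟩ := hob.2 0 (by norm_num)
            rw [hA0, one_smul] at heb
            obtain ⟨hbb, hbn, -, -⟩ := vcChk_iff hcb
            rw [headD_eq_getD, Bool.eq_iff_iff, dotTest_iff hb5 hD hc2,
              dotTest_iff hbb hbn hc1, he1, he2, heb, dot_cd, dot_cd, ← mul_smul, ← (hcomm i).eq, mul_smul,
              Leech.dotInt_smul]
      rw [candTest, hsig, Bool.not_true, Bool.false_or, List.any_eq_true] at hc
      obtain ⟨c, hc1, hc2⟩ := hc
      have hoc := List.all_eq_true.1 hC c hc1
      have hch : vcChk (c.headD vc0) = true := by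
        simp only [orbTest, Bool.and_eq_true] at hoc
        rw [headD_eq_getD, List.getD_eq_getElem _ _ (by rw [Nat.eq_of_beq_eq_true hoc.1.1.1]; norm_num)]
        exact List.all_eq_true.1 hoc.1.2 _ (List.getElem_mem _)
      have hcv : vf (c.headD vc0).v = cd ((g • v : leechLattice) : GolayPt → ℤ) :=
        eq_of_num_eq (vc_smul_bound hch) hb5 (vcChk_iff hch).2.1 (by rw [← Nat.eq_of_beq_eq_true hc2]; exact hD)
      have hoc' := orbTest_sound hA hoc hcv
      have hfilt : prevTest (c.headD vc0).n tp l.tg = true := by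
        rw [prevTest_image hcomm hA0 hob hoc' hP]; exact hprev
      have hnext : tp ++ [c] ∈ extend tps l :=
        List.mem_flatMap.2 ⟨tp, hm, List.mem_map_of_mem (List.mem_filter.2 ⟨hc1, hfilt⟩)⟩
      obtain ⟨tp', h1, h2⟩ := ih bs (prev ++ [b]) (tp ++ [c]) (extend tps l)
        (fun x hx => hsub x (List.mem_cons_of_mem _ hx)) hrest (fun x hx => hbs x (List.mem_cons_of_mem _ hx))
        (List.rel_append hP (List.Forall₂.cons ⟨v, hob, hoc'⟩ List.Forall₂.nil))
        (by rw [List.head?_append, hfirst]; rfl) hnext
      exact ⟨tp', h1, by rwa [List.append_assoc] at h2⟩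

end Cfsg.Agent.Lib.CoFive
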