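import Cfsg.Agent.Lib.CoFive.TwinDefs

/-!
Kernel checks on the lines and the four centralising elements.
-/

set_option autoImplicit false
set_option maxRecDepth 100000
set_option maxHeartbeats 16000000

namespace Cfsg.Agent.Lib.CoFive

open Cfsg
open Cfsg.Agent.Lib
open Cfsg.Agent.Lib.Compute

theorem canon_ok : lineReps.all (fun L => L.all (canonTest powRows (powRow 0))) = true := by decide +kernel

theorem heads_ok : headsTest lineReps = true := by decide +kernel

theorem lineReps_length : Nat.beq lineReps.length 315 = true := by decide +kernel

/-- The first representative of each line is a lattice vector. -/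
noncomputable def headLeechTest : Bool :=
  lineReps.all fun L => !L.isEmpty && Leech.leechChk (fun p => dec (L.headD 0) (Golay.idx p))

theorem headLeech_ok : headLeechTest = true := by decide +kernel

end Cfsg.Agent.Lib.CoFive
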