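import Cfsg.Agent.Lib.CoFive.TwinDefs

/-!
Kernel checks on the lines and the four centralising elements.
-/

set_option autoImplicit false
set_option maxRecDepth 100000
set_option maxHeartbeats 16000000

namespace Cfsg.Agent.Lib.CoFive

open Cfsg
open Cfsg.Agent.Lib
open Cfsg.Agent.Lib.Compute

theorem map_ok0 : mapTest (genRows 0) (powRow 0) lineReps (genCode 0) lineReps (genHints 0) 0 = true := by
  decide +kernel

theorem map_ok1 : mapTest (genRows 1) (powRow 0) lineReps (genCode 1) lineReps (genHints 1) 0 = true := by
  decide +kernel

theorem map_ok2 : mapTest (genRows 2) (powRow 0) lineReps (genCode 2) lineReps (genHints 2) 0 = true := by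
  decide +kernel

theorem map_ok3 : mapTest (genRows 3) (powRow 0) lineReps (genCode 3) lineReps (genHints 3) 0 = true := by
  decide +kernel

end Cfsg.Agent.Lib.CoFive
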