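import Cfsg.Agent.Lib.CoFive.TwinDefs

/-!
Kernel checks on the lines and the four centralising elements.
-/

set_option autoImplicit false
set_option maxRecDepth 100000
set_option maxHeartbeats 16000000

namespace Cfsg.Agent.Lib.CoFive

open Cfsg
open Cfsg.Agent.Lib
open Cfsg.Agent.Lib.Compute

theorem genTab_ok : ∀ t : Fin 4, MonsterType.matOk (toMat (genTab t 0)) ∧
    MonsterType.matOk (fun i k => toMat (genTab t 0) k i) := by
  intro t
  fin_cases t <;> refine ⟨⟨?_, ?_, ?_, ?_⟩, ⟨?_, ?_, ?_, ?_⟩⟩ <;> decide +kernel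

theorem genTab_orth : ∀ t : Fin 4,
    (∀ j k, (∑ i, toMat (genTab t 0) j i * toMat (genTab t 0) k i) = if j = k then 64 else 0) ∧
    ∀ j k, (∑ i, toMat (genTab t 0) i j * toMat (genTab t 0) i k) = if j = k then 64 else 0 := by
  intro t
  fin_cases t <;> refine ⟨?_, ?_⟩ <;> decide +kernel

theorem genTab_small : ∀ t : Fin 4, ∀ m : Fin 5, ∀ i j : Fin 24, |ent (genTab t m) i j| ≤ 8 := by decide +kernel

theorem genRows_eq : ∀ t : Fin 4, ∀ m : Fin 5,
    (genRows t).getD m [] = List.ofFn fun k => pack (ent (genTab t m) k) := by decide +kernel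

theorem genTab_prod : ∀ t : Fin 4, ∀ m : Fin 4,
    prodTest (genTab t m) (powTab 1) (genTab t (m + 1)) (powRow 1) = true := by decide +kernel

theorem genTab_comm : ∀ t : Fin 4,
    prodTest (powTab 1) (genTab t 0) (genTab t 1) ((genRows t).getD 0 []) = true := by decide +kernel

end Cfsg.Agent.Lib.CoFive
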