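import Cfsg.Agent.Lib.CoFive.Bound
import Cfsg.Agent.Lib.CoFive.TwinTabs
import Cfsg.Agent.Lib.CoFive.TwinMaps
import Cfsg.Agent.Lib.CoFive.TwinCanon
import Cfsg.Agent.Lib.Icosian.Action

/-!
The centraliser of the element of order five maps onto the Hall-Janko group with kernel of order ten.
-/

set_option autoImplicit false
set_option maxRecDepth 100000

namespace Cfsg.Agent.Lib.CoFive

open Cfsg
open Cfsg.Agent.Lib
open Cfsg.Agent.Lib.Compute

/-- The centraliser of the element of order five. -/
abbrev CA : Subgroup Co0 := Subgroup.centralizer ({aCo} : Set Co0)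

/-- The four centralising elements. -/
def genCo (t : Fin 4) : Co0 :=
  coOf (genTab t 0) ⟨(genTab_ok t).1, (genTab_ok t).2, (genTab_orth t).1, (genTab_orth t).2⟩

theorem rowsOK_gen (t : Fin 4) : ∀ {m : ℕ}, m < 5 → RowsOK (aCo ^ m * genCo t) (genTab t m) := by
  intro m
  induction m with
  | zero => intro _; rw [pow_zero, one_mul]; exact rowsOK_coOf _ _
  | succ m ih =>
    intro hm
    rw [pow_succ', mul_assoc]
    exact rowsOK_mul (ih (by omega)) rowsOK_aCo (fun i j => genTab_small t ⟨m, by omega⟩ i j)
      (small_pow (by norm_num)) (fun i j => genTab_small t ⟨m + 1, hm⟩ i j) (genTab_prod t ⟨m, by omega⟩)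

theorem genCo_commute (t : Fin 4) : Commute (genCo t) aCo := by
  refine co0_ext_rows (L := genTab t 1) ?_ ?_
  · exact rowsOK_mul rowsOK_aCo (rowsOK_coOf _ _) (small_pow (by norm_num)) (fun i j => genTab_small t 0 i j)
      (fun i j => genTab_small t 1 i j) (genTab_comm t)
  · have := rowsOK_gen t (m := 1) (by norm_num)
    rwa [_root_.pow_one] at this

theorem mapTest_gen : ∀ t : Fin 4,
    mapTest (genRows t) (powRow 0) lineReps (genCode t) lineReps (genHints t) 0 = true := by
  intro t
  fin_cases t
  exacts [map_ok0, map_ok1, map_ok2, map_ok3]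

/-- Powers of the element. -/
noncomputable abbrev APow (i : ℕ) : Co0 := aCo ^ i

theorem apow_eq : ∀ m < 5, APow m = APow 1 ^ m := fun m _ => by simp [APow]

theorem apow_five : APow 1 ^ 5 = 1 := by simp [APow, aCo_pow_five]

theorem powRow_zero : powRow 0 = List.ofFn fun k => pack (ent oneTab k) := by
  rw [← pow_one.2]; exact pow_rows 0

/-- Pairs respecting the lines. -/
def linePairs : Submonoid (↥CA × Equiv.Perm (Fin 315)) where
  carrier := {p | ∀ (i : Fin 315) (v : leechLattice),
    InLine APow lineReps i v → InLine APow lineReps (p.2 i) ((p.1 : Co0) • v)}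
  one_mem' := fun i v h => by simpa using h
  mul_mem' := by
    intro p q hp hq i v h
    have := hp _ _ (hq i v h)
    simpa [mul_smul] using this

theorem inLine_smul_neg {i : ℕ} {v : leechLattice} (h : InLine APow lineReps i v) :
    InLine APow lineReps i ((Leech.negCo * aCo) • v) := by
  obtain ⟨c, hc, w, hw, m, hm, hv⟩ := h
  refine ⟨c, hc, w, hw, (m + 1) % 5, Nat.mod_lt _ (by norm_num), ?_⟩
  have e : aCo • (APow m • w) = APow ((m + 1) % 5) • w := by
    rw [← mul_smul]
    congr 1
    show aCo * aCo ^ m = aCo ^ ((m + 1) % 5)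
    rw [← pow_succ', ← pow_eq_pow_mod _ aCo_pow_five]
  rw [mul_smul, Leech.negCo_smul]
  rcases hv with rfl | rfl
  · exact Or.inr (by rw [e])
  · exact Or.inl (by rw [Leech.smul_neg', e, neg_neg])

theorem negA_mem : Leech.negCo * aCo ∈ CA :=
  Subgroup.mem_centralizer_singleton_iff.2 (Commute.mul_left
    (Subgroup.mem_center_iff.1 Leech.negCo_mem_center aCo).symm (Commute.refl aCo)).eq

/-- The central element of order ten. -/
def negA : ↥CA := ⟨Leech.negCo * aCo, negA_mem⟩

theorem genCode_spec (t : Fin 4) : ∃ h : Equiv.Perm (Fin 315), Icosian.lineCoding.enc h = genCode t := by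
  have hlt : (t : ℕ) < Icosian.permGens.length := by rw [Icosian.permGens_length]; exact t.isLt
  obtain ⟨g, -, hg, -⟩ := Icosian.gensOK_lines (genAt Icosian.permGens (permOps 9 315) t) (by
    rw [genAt, List.getD_eq_getElem _ _ hlt]; exact List.getElem_mem _)
  exact ⟨g, hg⟩

/-- The permutation of a generator. -/
noncomputable def genPermOf (t : Fin 4) : Equiv.Perm (Fin 315) := (genCode_spec t).choose

theorem genPermOf_apply (t : Fin 4) (i : Fin 315) : (genPermOf t i : ℕ) = getP 9 (genCode t) i := by
  have key : ∀ (g : Equiv.Perm (Fin 315)) (c : ℕ), Icosian.lineCoding.enc g = c → (g i : ℕ) = getP 9 c i := by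
    rintro g c rfl
    rw [Icosian.lineCoding, permCoding_enc, getP_encP (by norm_num) _ _ i.isLt]
    simp [imgP]
  exact key (genPermOf t) (genCode t) (genCode_spec t).choose_spec

/-- A generator as an element of the centraliser. -/
def genC (t : Fin 4) : ↥CA := ⟨genCo t, Subgroup.mem_centralizer_singleton_iff.2 (genCo_commute t).eq⟩

theorem gen_pair_mem (t : Fin 4) : (genC t, genPermOf t) ∈ linePairs := by
  intro i v hv
  rw [genPermOf_apply]
  refine inLine_map (A := APow) (g := genCo t) (tabs := genTab t) (rows := genRows t) (one := powRow 0)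
    apow_eq ?_ apow_five (fun m hm => ⟨rowsOK_gen t hm, fun i j => genTab_small t ⟨m, hm⟩ i j,
      genRows_eq t ⟨m, hm⟩⟩) powRow_zero (mapTest_gen t) hv
  simpa [APow] using genCo_commute t

/-- The generating pairs. -/
def pairGens : Set (↥CA × Equiv.Perm (Fin 315)) :=
  Set.range (fun t => (genC t, genPermOf t)) ∪ {(negA, 1)}

/-- The twin group. -/
def twinK : Subgroup (↥CA × Equiv.Perm (Fin 315)) := Subgroup.closure pairGens

theorem twinK_le {p : ↥CA × Equiv.Perm (Fin 315)} (hp : p ∈ twinK) : p ∈ linePairs := by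
  haveI : Finite Co0 := Leech.finite_co0
  rw [twinK, ← Subgroup.mem_toSubmonoid, Subgroup.closure_toSubmonoid_of_finite] at hp
  refine (Submonoid.closure_le (S := linePairs)).2 ?_ hp
  rintro _ (⟨t, rfl⟩ | rfl)
  · exact gen_pair_mem t
  · intro i v h
    simpa [negA] using inLine_smul_neg h

theorem lineReps_get (i : Fin 315) : lineReps.getD i [] ≠ [] ∧
    ∃ w : leechLattice, cd (w : GolayPt → ℤ) = dec ((lineReps.getD i []).headD 0) := by
  have hlt : (i : ℕ) < lineReps.length := by rw [Nat.eq_of_beq_eq_true lineReps_length]; exact i.isLt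
  have h := List.all_eq_true.1 headLeech_ok _ (List.getElem_mem hlt)
  rw [Bool.and_eq_true] at h
  rw [List.getD_eq_getElem _ _ hlt]
  refine ⟨fun e => by rw [e] at h; simp at h, ⟨_, Leech.leechChk_sound h.2⟩, funext fun k => ?_⟩
  show dec _ (Golay.idx (Golay.pt k)) = _
  rw [Golay.idx_pt]

theorem powRows_mem : ∀ m < 5, RowsOK (APow m) (powTab m) ∧ Small (powTab m) ∧
    List.ofFn (fun k => pack (ent (powTab m) k)) ∈ powRows := by
  intro m hm
  refine ⟨rowsOK_pow hm, small_pow hm, ?_⟩
  have h := pow_rows ⟨m, hm⟩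
  have hl : powRows.length = 5 := rfl
  rw [← h, powRow, List.getD_eq_getElem _ _ (by rw [hl]; exact hm)]
  exact List.getElem_mem _

theorem eq_one_of_fst {h : Equiv.Perm (Fin 315)} (hh : ((1 : ↥CA), h) ∈ twinK) : h = 1 := by
  refine Equiv.ext fun i => ?_
  obtain ⟨hne, w, hw⟩ := lineReps_get i
  have hlt : (i : ℕ) < lineReps.length := by rw [Nat.eq_of_beq_eq_true lineReps_length]; exact i.isLt
  have hmem : (lineReps.getD i []).headD 0 ∈ lineReps.getD i [] := by
    cases hL : lineReps.getD i [] with
    | nil => exact absurd hL hne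
    | cons a l => exact List.mem_cons_self ..
  have hin : InLine APow lineReps i w :=
    ⟨_, hmem, w, hw, 0, by norm_num, Or.inl (by simp [APow])⟩
  have := twinK_le hh i w hin
  simp only [OneMemClass.coe_one, one_smul] at this
  exact (Fin.ext (inLine_unique apow_eq apow_five powRows_mem powRow_zero
    (fun L hL => List.all_eq_true.1 canon_ok L hL) heads_ok hlt hne hw this)).symm

theorem twinK_map_snd :
    twinK.map (MonoidHom.snd ↥CA (Equiv.Perm (Fin 315))) = genGroup Icosian.lineCoding Icosian.permGens := by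
  rw [twinK, MonoidHom.map_closure, genGroup]
  refine le_antisymm ((Subgroup.closure_le _).2 ?_) ((Subgroup.closure_le _).2 ?_)
  · rintro _ ⟨_, ⟨t, rfl⟩ | rfl, rfl⟩
    · refine Subgroup.subset_closure ⟨genAt Icosian.permGens (permOps 9 315) t, ?_, (genCode_spec t).choose_spec⟩
      have hlt : (t : ℕ) < Icosian.permGens.length := by rw [Icosian.permGens_length]; exact t.isLt
      rw [genAt, List.getD_eq_getElem _ _ hlt]
      exact List.getElem_mem _
    · exact one_mem _
  · rintro g ⟨p, hp, hg⟩
    obtain ⟨t, rfl⟩ := Icosian.mem_permGens hp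
    refine Subgroup.subset_closure ⟨_, Or.inl ⟨t, rfl⟩, ?_⟩
    exact Icosian.lineCoding.inj ((genCode_spec t).choose_spec.trans hg.symm)

theorem orderOf_negA : orderOf negA = 10 := by
  rw [← Subgroup.orderOf_coe]
  show orderOf (Leech.negCo * aCo) = 10
  have hc : Commute Leech.negCo aCo := (Subgroup.mem_center_iff.1 Leech.negCo_mem_center aCo).symm
  have h2 : orderOf Leech.negCo = 2 := by
    haveI : Fact (Nat.Prime 2) := ⟨Nat.prime_two⟩
    refine orderOf_eq_prime (Leech.co0_ext fun v => ?_) Leech.negCo_ne_one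
    rw [pow_two, mul_smul, Leech.negCo_smul, Leech.negCo_smul, one_smul, neg_neg]
  have h5 : orderOf aCo = 5 := by
    haveI : Fact (Nat.Prime 5) := ⟨by norm_num⟩
    refine orderOf_eq_prime aCo_pow_five fun e => ?_
    have h := rowsOK_aCo
    rw [e] at h
    have e2 : ent (powTab 1) 0 0 = ent oneTab 0 0 := (h 0 0).symm.trans (rowsOK_one 0 0)
    revert e2
    decide +kernel
  rw [hc.orderOf_mul_eq_mul_orderOf_of_coprime (by rw [h2, h5]; norm_num), h2, h5]

theorem aCo_mem : aCo ∈ CA := Subgroup.mem_centralizer_singleton_iff.2 rfl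

/-- The centraliser maps onto the group of the 315 lines, with kernel the central cyclic group of order ten. -/
theorem exists_lineMap : ∃ ψ : ↥CA →* Equiv.Perm (Fin 315),
    ψ.range = genGroup Icosian.lineCoding Icosian.permGens ∧ ψ.ker = Subgroup.zpowers negA := by
  haveI : Finite Co0 := Leech.finite_co0
  set f1 : ↥twinK →* ↥CA := (MonoidHom.fst _ _).comp twinK.subtype with hf1
  set f2 : ↥twinK →* Equiv.Perm (Fin 315) := (MonoidHom.snd _ _).comp twinK.subtype with hf2
  have hinj : Function.Injective f1 := by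
    rw [injective_iff_map_eq_one]
    rintro ⟨⟨g, h⟩, hp⟩ (rfl : g = 1)
    exact Subtype.ext (Prod.ext rfl (eq_one_of_fst hp))
  have hr2 : f2.range = genGroup Icosian.lineCoding Icosian.permGens := by
    rw [hf2, MonoidHom.range_comp, Subgroup.range_subtype, twinK_map_snd]
  have hJ : Nat.card (genGroup Icosian.lineCoding Icosian.permGens) = 604800 := by
    rw [← Icosian.lineHom_range, Icosian.card_range]
  set n : ↥twinK := ⟨(negA, 1), Subgroup.subset_closure (Or.inr rfl)⟩ with hn
  have hnk : Subgroup.zpowers n ≤ f2.ker := by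
    rw [Subgroup.zpowers_le]; exact rfl
  have hno : orderOf n = 10 := by
    rw [← orderOf_negA]; exact (orderOf_injective f1 hinj n).symm
  have h10 : 10 ≤ Nat.card f2.ker := by
    rw [← hno, ← Nat.card_zpowers]; exact Subgroup.card_le_of_le hnk
  have hK : Nat.card twinK = 604800 * Nat.card f2.ker := by
    rw [Subgroup.card_eq_card_quotient_mul_card_subgroup f2.ker,
      Nat.card_congr (QuotientGroup.quotientKerEquivRange f2).toEquiv, hr2, hJ]
  have hle : Nat.card twinK ≤ Nat.card ↥CA := Nat.card_le_card_of_injective f1 hinj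
  have hCle : Nat.card ↥CA ≤ 6048000 := card_centralizer_le
  have hker : Nat.card f2.ker = 10 := by omega
  have hkz : Subgroup.zpowers n = f2.ker :=
    Subgroup.eq_of_le_of_card_ge hnk (by rw [Nat.card_zpowers, hno, hker])
  have hbij : Function.Bijective f1 :=
    hinj.bijective_of_nat_card_le (by omega)
  set e : ↥twinK ≃* ↥CA := MulEquiv.ofBijective f1 hbij with he
  refine ⟨f2.comp e.symm.toMonoidHom, ?_, ?_⟩
  · rw [MonoidHom.range_comp, MonoidHom.range_eq_top.2 e.symm.surjective, ← MonoidHom.range_eq_map, hr2]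
  · rw [← MonoidHom.comap_ker, ← hkz]
    ext g
    simp only [Subgroup.mem_comap, MulEquiv.coe_toMonoidHom, Subgroup.mem_zpowers_iff]
    refine ⟨fun ⟨k, hk⟩ => ⟨k, ?_⟩, fun ⟨k, hk⟩ => ⟨k, ?_⟩⟩
    · have := congrArg e hk
      rw [map_zpow, MulEquiv.apply_symm_apply] at this
      exact this
    · apply e.injective
      rw [map_zpow, MulEquiv.apply_symm_apply]
      exact hk

end Cfsg.Agent.Lib.CoFive
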