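import Cfsg.Agent.Lib.CoFive.Checks
import Cfsg.Agent.Lib.CoFive.Lines
import Cfsg.Agent.Lib.CoFive.TwinData
import Cfsg.Agent.Lib.Icosian.PermData

/-!
Kernel checks on the lines and the four centralising elements.
-/

set_option autoImplicit false
set_option maxRecDepth 100000
set_option maxHeartbeats 16000000

namespace Cfsg.Agent.Lib.CoFive

open Cfsg
open Cfsg.Agent.Lib
open Cfsg.Agent.Lib.Compute

/-- The tables of a generator followed by the powers. -/
def genTab (t : Fin 4) (m : ℕ) : List (List ℤ) :=
  ([genTabs0, genTabs1, genTabs2, genTabs3].getD t []).getD m []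

/-- Their packed rows. -/
def genRows (t : Fin 4) : List (List ℤ) := [genRows0, genRows1, genRows2, genRows3].getD t []

/-- The hints of a generator. -/
def genHints (t : Fin 4) : List (List ℕ) := [genHints0, genHints1, genHints2, genHints3].getD t []

/-- The permutation code of a generator. -/
noncomputable def genCode (t : Fin 4) : ℕ := (genAt Icosian.permGens (permOps 9 315) t).1

end Cfsg.Agent.Lib.CoFive
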